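import Cfsg.Agent.H647.HM.Swap
import Cfsg.Agent.H802.FusBasic

/-!
# S5175, T7c: two directions contradict the solvability of the local subsystems (helper647)
-/

set_option autoImplicit false
set_option linter.unusedSectionVars false

namespace Cfsg.Agent.H647.HM

open Cfsg Cfsg.FusionSystem Cfsg.Agent.H756.HM Subgroup Cfsg.Agent.H802
open scoped commutatorElement

universe u

section sit

variable {Ω : Type u} [Group Ω] {S : Subgroup Ω} {F : FusionSystem S} {T : Subgroup Ω} {P : Type u} [Group P]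
  (s : Sit F T P)

/-- the element of `T` mapped to a given element of the image -/
theorem exists_pre {p : P} (hp : p ∈ s.ι.range) : ∃ t : T, s.ι t = p := hp

/-- conjugation by `e : P`, as a map of `F` -/
theorem exists_fus {A : Subgroup Ω} (hA : A ≤ T) (e : P)
    (h : ∀ a : A, e * s.ι ⟨a, hA a.2⟩ * e⁻¹ ∈ s.ι.range) :
    ∃ φ : A →* Ω, φ ∈ F.Hom A ∧ ∃ hφ : (∀ a : A, φ a ∈ T), ∀ a : A, s.ι ⟨φ a, hφ a⟩ = e * s.ι ⟨a, hA a.2⟩ * e⁻¹ := by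
  let f : A →* ↥s.ι.range :=
    MonoidHom.codRestrict ((MulAut.conj e).toMonoidHom.comp (s.ι.comp (inclusion hA))) s.ι.range (fun a => h a)
  let ψ : ↥T ≃* ↥s.ι.range := MonoidHom.ofInjective s.inj
  have hψ : ∀ t : T, (ψ t : P) = s.ι t := fun t => rfl
  let φ : A →* Ω := T.subtype.comp (ψ.symm.toMonoidHom.comp f)
  have hφ : ∀ a : A, φ a ∈ T := fun a => (ψ.symm (f a)).2
  have h1 : ∀ a : A, s.ι ⟨φ a, hφ a⟩ = e * s.ι ⟨a, hA a.2⟩ * e⁻¹ := by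
    intro a
    have h2 : (⟨φ a, hφ a⟩ : T) = ψ.symm (f a) := rfl
    rw [h2, ← hψ, MulEquiv.apply_symm_apply]
    rfl
  exact ⟨φ, s.fus A hA e φ hφ h1, hφ, h1⟩

/-- the preimage of a subgroup of `P` in `T`, as a subgroup of `Ω` -/
def pre (X : Subgroup P) : Subgroup Ω := (X.comap s.ι).map T.subtype

theorem mem_pre {X : Subgroup P} {v : Ω} : v ∈ pre s X ↔ ∃ h : v ∈ T, s.ι ⟨v, h⟩ ∈ X := by
  constructor
  · rintro ⟨t, ht, rfl⟩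
    exact ⟨t.2, ht⟩
  · rintro ⟨h, h1⟩
    exact ⟨⟨v, h⟩, h1, rfl⟩

theorem pre_le (X : Subgroup P) : pre s X ≤ T := map_subtype_le _

variable {x : Ω} (hx : x ∈ normalizer (T : Set Ω))

include hx in
theorem conj_T {t : Ω} (ht : t ∈ T) : x * t * x⁻¹ ∈ T := (mem_normalizer_iff.1 hx t).1 ht

include hx in
theorem conj_T' {t : Ω} (ht : t ∈ T) : x⁻¹ * t * x ∈ T := by
  have h1 := (mem_normalizer_iff.1 ((normalizer (T : Set Ω)).inv_mem hx) t).1 ht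
  rwa [inv_inv] at h1

/-- the invariance of `{v ∈ V : y v y⁻¹ ∈ C}` -/
theorem inv_closed (hQc : ∀ a ∈ pCore 2 P, ∀ b ∈ pCore 2 P, a * b = b * a) {y : Ω} (hy : y ∈ S)
    {U C : Subgroup Ω} (hC : ∀ A : Subgroup Ω, A ≤ C → ∀ φ ∈ F.centralizerHom U A, ∀ a : A, φ a ∈ C)
    {E : Subgroup P}
    (hU : ∀ u ∈ U, ∃ h : y⁻¹ * u * y ∈ T, s.ι ⟨_, h⟩ ∈ pCore 2 P ∧ ∀ e ∈ E, e * s.ι ⟨_, h⟩ = s.ι ⟨_, h⟩ * e)
    {v : Ω} (hv : v ∈ pre s (pCore 2 P)) (hvC : y * v * y⁻¹ ∈ C) {e : P} (he : e ∈ E) {v' : Ω} (hv' : v' ∈ T)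
    (h : s.ι ⟨v', hv'⟩ = e * s.ι ⟨v, pre_le s _ hv⟩ * e⁻¹) : y * v' * y⁻¹ ∈ C := by
  have hQn : (pCore 2 P).Normal := Cfsg.Agent.Lib.Cores.pCore_normal 2
  set V := pre s (pCore 2 P) with hV
  have hVT : V ≤ T := pre_le s _
  have hVS : V ≤ S := hVT.trans s.T_le
  have hVc : ∀ a ∈ V, ∀ b ∈ V, a * b = b * a := by
    intro a ha b hb
    obtain ⟨h1, h2⟩ := (mem_pre s).1 ha
    obtain ⟨h3, h4⟩ := (mem_pre s).1 hb
    have h5 : (⟨a, h1⟩ : T) * ⟨b, h3⟩ = ⟨b, h3⟩ * ⟨a, h1⟩ := by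
      apply s.inj
      rw [map_mul, map_mul]
      exact hQc _ h2 _ h4
    exact congrArg Subtype.val h5
  obtain ⟨Rs, hRs⟩ := s.syl
  have hfin := s.fin
  have hQR : pCore 2 P ≤ s.ι.range := by
    rw [← hRs]
    exact Cfsg.Agent.Lib.Cores.pCore_le_sylow Rs
  obtain ⟨φ, hφF, hφT, hφ⟩ := exists_fus s hVT e (by
    intro a
    obtain ⟨h1, h2⟩ := (mem_pre s).1 a.2
    exact hQR (hQn.conj_mem _ h2 e))
  have hφV : ∀ a : V, φ a ∈ V := by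
    intro a
    obtain ⟨h1, h2⟩ := (mem_pre s).1 a.2
    refine (mem_pre s).2 ⟨hφT a, ?_⟩
    rw [hφ a]
    exact hQn.conj_mem _ h2 e
  -- the group `A = y V y⁻¹`
  set A : Subgroup Ω := cj y V with hA
  have hmemA : ∀ {a : Ω}, a ∈ A ↔ y⁻¹ * a * y ∈ V := by
    intro a
    constructor
    · rintro ⟨w, hw, rfl⟩
      have : y⁻¹ * (MulAut.conj y).toMonoidHom w * y = w := by
        show y⁻¹ * (y * w * y⁻¹) * y = w
        group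
      rw [this]
      exact hw
    · intro h1
      refine ⟨_, h1, ?_⟩
      show y * (y⁻¹ * a * y) * y⁻¹ = a
      group
  have hAS : A ≤ S := by
    rintro _ ⟨w, hw, rfl⟩
    exact S.mul_mem (S.mul_mem hy (hVS hw)) (S.inv_mem hy)
  obtain ⟨χ₁, hχ₁F, hχ₁⟩ := exists_comp (F.conj_mem (g := y⁻¹) hAS (S.inv_mem hy)) hφF (by
    intro a
    have h1 := hmemA.1 a.2
    show y⁻¹ * (a : Ω) * y⁻¹⁻¹ ∈ V
    rwa [inv_inv])
  obtain ⟨χ, hχF, hχ⟩ := exists_comp hχ₁F (F.conj_mem (P := V) (g := y) hVS hy) (by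
    intro a
    rw [hχ₁]
    exact hφV _)
  have hχe : ∀ (a : A) (h1 : y⁻¹ * a * y ∈ V), χ a = y * φ ⟨y⁻¹ * a * y, h1⟩ * y⁻¹ := by
    intro a h1
    rw [hχ a]
    show y * χ₁ a * y⁻¹ = _
    rw [hχ₁ a]
    congr 3
    apply Subtype.ext
    show y⁻¹ * (a : Ω) * y⁻¹⁻¹ = _
    rw [inv_inv]
  have hUA : U ≤ A := by
    intro u hu
    obtain ⟨h1, h2, -⟩ := hU u hu
    exact hmemA.2 ((mem_pre s).2 ⟨h1, h2⟩)
  have hχU : ∀ u (hu : u ∈ U), χ ⟨u, hUA hu⟩ = u := by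
    intro u hu
    obtain ⟨h1, h2, h3⟩ := hU u hu
    have h4 : y⁻¹ * u * y ∈ V := (mem_pre s).2 ⟨h1, h2⟩
    rw [hχe ⟨u, hUA hu⟩ h4]
    have h5 : φ ⟨y⁻¹ * u * y, h4⟩ = y⁻¹ * u * y := by
      have h6 := hφ ⟨y⁻¹ * u * y, h4⟩
      have h7 := h3 e he
      have h8 : s.ι ⟨φ ⟨y⁻¹ * u * y, h4⟩, hφT _⟩ = s.ι ⟨y⁻¹ * u * y, h1⟩ := by
        rw [h6]
        show e * s.ι ⟨y⁻¹ * u * y, h1⟩ * e⁻¹ = _
        rw [h7, mul_inv_cancel_right]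
      exact congrArg Subtype.val (s.inj h8)
    rw [h5]
    group
  have hAc : ∀ a ∈ A, ∀ b ∈ A, a * b = b * a := by
    intro a ha b hb
    have h1 := hVc _ (hmemA.1 ha) _ (hmemA.1 hb)
    have h2 : y⁻¹ * (a * b) * y = y⁻¹ * (b * a) * y := by
      calc y⁻¹ * (a * b) * y = y⁻¹ * a * y * (y⁻¹ * b * y) := by group
        _ = y⁻¹ * b * y * (y⁻¹ * a * y) := h1
        _ = y⁻¹ * (b * a) * y := by group
    exact mul_left_cancel (mul_right_cancel h2)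
  have hAU : A ≤ centralizerIn S U := by
    intro a ha
    exact ⟨hAS ha, mem_centralizer_iff.2 fun u hu => hAc u (hUA hu) a ha⟩
  have hχA : ∀ a : A, χ a ∈ A := by
    intro a
    rw [hχe a (hmemA.1 a.2), hmemA]
    have h1 : y⁻¹ * (y * φ ⟨y⁻¹ * a * y, hmemA.1 a.2⟩ * y⁻¹) * y = φ ⟨y⁻¹ * a * y, hmemA.1 a.2⟩ := by group
    rw [h1]
    exact hφV _
  -- apply the closure
  have h1 := hC (C ⊓ A) inf_le_left (χ.comp (inclusion inf_le_right)) ⟨restrict_mem hχF inf_le_right,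
    inf_le_right.trans hAU, fun a => hAU (hχA _), ?_⟩
  · have hvA : y * v * y⁻¹ ∈ A := hmemA.2 (by
      have : y⁻¹ * (y * v * y⁻¹) * y = v := by group
      rw [this]
      exact hv)
    have h2 := h1 ⟨y * v * y⁻¹, hvC, hvA⟩
    have h3 : χ ⟨y * v * y⁻¹, hvA⟩ = y * v' * y⁻¹ := by
      rw [hχe _ (hmemA.1 hvA)]
      congr 2
      have h4 : (⟨y⁻¹ * (y * v * y⁻¹) * y, hmemA.1 hvA⟩ : V) = ⟨v, hv⟩ := Subtype.ext (by
        show y⁻¹ * (y * v * y⁻¹) * y = v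
        group)
      have h5 : φ ⟨y⁻¹ * (y * v * y⁻¹) * y, hmemA.1 hvA⟩ = φ ⟨v, hv⟩ := congrArg φ h4
      refine Eq.trans h5 ?_
      have h6 : s.ι ⟨φ ⟨v, hv⟩, hφT _⟩ = s.ι ⟨v', hv'⟩ := by rw [hφ ⟨v, hv⟩, h]
      exact congrArg Subtype.val (s.inj h6)
    rw [← h3]
    exact h2
  · refine ⟨χ.comp (inclusion (sup_le inf_le_right hUA)), restrict_mem hχF _, fun a => rfl, fun u => ?_⟩
    exact hχU u u.2

end sit

theorem kill_of (hCh : StChain.{u}) : StKill.{u} := by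
  intro Ω _ S _ hp F hF hmin T P _ s x hxS hxT hx1 hx2 hQc ξ hξ htd
  obtain ⟨E₁, E₂, U, hU1, hUQ, hUQ', hUE₁, hUE₂, irr₁, irr₂, w₁, w₂, hw₁, hw₂, hr₁, hr₂⟩ := htd
  have hfin := s.fin
  have hQn : (pCore 2 P).Normal := Cfsg.Agent.Lib.Cores.pCore_normal 2
  -- preimages
  have hpre : ∀ z : ↥s.ι.range, ∃ t : T, s.ι t = z := fun z => z.2
  obtain ⟨t₁, ht₁⟩ := hpre w₁
  obtain ⟨t₂, ht₂⟩ := hpre w₂
  have hmk : ∀ t : T, (⟨s.ι t, ⟨t, rfl⟩⟩ : ↥s.ι.range) = ⟨s.ι t, ⟨t, rfl⟩⟩ := fun _ => rfl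
  have hξ' : ∀ t : T, ((ξ ⟨s.ι t, ⟨t, rfl⟩⟩ : ↥(s.ι.range)) : P) = s.ι ⟨x * t * x⁻¹, conj_T hxT t.2⟩ :=
    fun t => hξ t _
  have hξi : ∀ t : T, ((ξ⁻¹ ⟨s.ι t, ⟨t, rfl⟩⟩ : ↥(s.ι.range)) : P) = s.ι ⟨x⁻¹ * t * x, conj_T' hxT t.2⟩ := by
    intro t
    have h1 : ξ ⟨s.ι ⟨x⁻¹ * t * x, conj_T' hxT t.2⟩, ⟨_, rfl⟩⟩ = ⟨s.ι t, ⟨t, rfl⟩⟩ := by
      apply Subtype.ext
      rw [hξ']
      show s.ι _ = s.ι t
      congr 1
      apply Subtype.ext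
      show x * (x⁻¹ * (t : Ω) * x) * x⁻¹ = t
      group
    rw [← h1, MulAut.inv_apply_self]
  -- the subgroup `U` of `S`
  set Û : Subgroup Ω := pre s (U.map s.ι.range.subtype) with hÛ
  have hmemU : ∀ {u : Ω}, u ∈ Û → ∃ h : u ∈ T, (⟨s.ι ⟨u, h⟩, ⟨_, rfl⟩⟩ : ↥s.ι.range) ∈ U := by
    intro u hu
    obtain ⟨h, z, hz, hz2⟩ := (mem_pre s).1 hu
    refine ⟨h, ?_⟩
    have : z = (⟨s.ι ⟨u, h⟩, ⟨_, rfl⟩⟩ : ↥s.ι.range) := Subtype.ext hz2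
    rwa [← this]
  have hÛT : Û ≤ T := pre_le s _
  have hÛS : Û ≤ S := hÛT.trans s.T_le
  have hÛ1 : Û ≠ ⊥ := by
    intro h
    apply hU1
    rw [eq_bot_iff]
    intro z hz
    obtain ⟨t, ht⟩ := hpre z
    have h1 : (t : Ω) ∈ Û := (mem_pre s).2 ⟨t.2, z, hz, ht.symm⟩
    rw [h, mem_bot] at h1
    have h2 : t = 1 := Subtype.ext h1
    rw [mem_bot]
    apply Subtype.ext
    rw [← ht, h2, map_one]
    rfl
  have hU₁ : ∀ u ∈ Û, ∃ h : (1 : Ω)⁻¹ * u * 1 ∈ T, s.ι ⟨_, h⟩ ∈ pCore 2 P ∧ ∀ e ∈ E₁, e * s.ι ⟨_, h⟩ = s.ι ⟨_, h⟩ * e := by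
    intro u hu
    obtain ⟨h, h1⟩ := hmemU hu
    have h0 : (1 : Ω)⁻¹ * u * 1 = u := by group
    have h0' : (1 : Ω)⁻¹ * u * 1 ∈ T := by rwa [h0]
    have h2 : (⟨(1 : Ω)⁻¹ * u * 1, h0'⟩ : T) = ⟨u, h⟩ := Subtype.ext h0
    refine ⟨h0', ?_, fun e he => ?_⟩
    · rw [h2]
      exact hUQ h1
    · rw [h2]
      exact hUE₁ _ h1 e he
  have hU₂ : ∀ u ∈ Û, ∃ h : x⁻¹ * u * x ∈ T, s.ι ⟨_, h⟩ ∈ pCore 2 P ∧ ∀ e ∈ E₂, e * s.ι ⟨_, h⟩ = s.ι ⟨_, h⟩ * e := by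
    intro u hu
    obtain ⟨h, h1⟩ := hmemU hu
    refine ⟨conj_T' hxT h, ?_, fun e he => ?_⟩
    · have h2 := mem_tw.1 (hUQ' h1)
      rw [mem_subgroupOf, hξi ⟨u, h⟩] at h2
      exact h2
    · have h2 := hUE₂ _ h1 e he
      rw [hξi ⟨u, h⟩] at h2
      exact h2
  obtain ⟨n, C, hC0, hCn, hCm, hCc, hCcl⟩ := hCh hp F hF hmin Û hÛS hÛ1
  set V := pre s (pCore 2 P) with hV
  have hVT : V ≤ T := pre_le s _
  have hVS : V ≤ S := hVT.trans s.T_le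
  have hVc : ∀ a ∈ V, ∀ b ∈ V, a * b = b * a := by
    intro a ha b hb
    obtain ⟨h1, h2⟩ := (mem_pre s).1 ha
    obtain ⟨h3, h4⟩ := (mem_pre s).1 hb
    have h5 : (⟨a, h1⟩ : T) * ⟨b, h3⟩ = ⟨b, h3⟩ * ⟨a, h1⟩ := by
      apply s.inj
      rw [map_mul, map_mul]
      exact hQc _ h2 _ h4
    exact congrArg Subtype.val h5
  have hVn : ∀ t ∈ T, ∀ v ∈ V, t * v * t⁻¹ ∈ V := by
    intro t ht v hv
    obtain ⟨h1, h2⟩ := (mem_pre s).1 hv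
    refine (mem_pre s).2 ⟨T.mul_mem (T.mul_mem ht h1) (T.inv_mem ht), ?_⟩
    have h3 : (⟨t * v * t⁻¹, T.mul_mem (T.mul_mem ht h1) (T.inv_mem ht)⟩ : T) = ⟨t, ht⟩ * ⟨v, h1⟩ * ⟨t, ht⟩⁻¹ := rfl
    rw [h3, map_mul, map_mul, map_inv]
    exact hQn.conj_mem _ h2 _
  have hÛV : Û ≤ V := by
    intro u hu
    obtain ⟨h, h1⟩ := hmemU hu
    exact (mem_pre s).2 ⟨h, hUQ h1⟩
  have hÛV' : ∀ u ∈ Û, x⁻¹ * u * x ∈ V := by
    intro u hu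
    obtain ⟨h, h1, -⟩ := hU₂ u hu
    exact (mem_pre s).2 ⟨h, h1⟩
  -- the elements
  have ht₁V : (t₁ : Ω) ∈ V := by
    refine (mem_pre s).2 ⟨t₁.2, ?_⟩
    rw [show (⟨(t₁ : Ω), t₁.2⟩ : T) = t₁ from rfl, ht₁]
    exact (commutator_le_left (pCore 2 P) E₁) hw₁
  have ht₂V : (t₂ : Ω) ∈ V := by
    refine (mem_pre s).2 ⟨t₂.2, ?_⟩
    rw [show (⟨(t₂ : Ω), t₂.2⟩ : T) = t₂ from rfl, ht₂]
    exact (commutator_le_left (pCore 2 P) E₂) hw₂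
  set t₃ : T := ⟨x * t₂ * x⁻¹, conj_T hxT t₂.2⟩ with ht₃
  have hw₂' : ((ξ w₂ : ↥s.ι.range) : P) = s.ι t₃ := by
    have h1 : w₂ = ⟨s.ι t₂, ⟨t₂, rfl⟩⟩ := Subtype.ext ht₂.symm
    rw [h1]
    exact hξ' t₂
  set r : T := ⁅t₁, t₃⁆ with hr
  have hrι : s.ι r = ((⁅w₁, ξ w₂⁆ : ↥s.ι.range) : P) := by
    rw [hr, map_commutatorElement, ht₁, ← hw₂']
    rfl
  have hr₁' : s.ι r ∉ centralizer (E₁ : Set P) := by rwa [hrι]
  have hrV : (r : Ω) ∈ V := by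
    have h1 : (r : Ω) = t₁ * (t₃ * (t₁ : Ω)⁻¹ * (t₃ : Ω)⁻¹) := by
      rw [hr, commutatorElement_def]
      simp only [Subgroup.coe_mul, Subgroup.coe_inv, mul_assoc]
    rw [h1]
    exact V.mul_mem ht₁V (hVn _ t₃.2 _ (V.inv_mem ht₁V))
  -- `r` conjugated
  have hrx : x⁻¹ * r * x ∈ V := by
    have h1 : x⁻¹ * (r : Ω) * x = (x⁻¹ * t₁ * x) * t₂ * (x⁻¹ * t₁ * x)⁻¹ * (t₂ : Ω)⁻¹ := by
      rw [hr, commutatorElement_def]
      simp only [Subgroup.coe_mul, Subgroup.coe_inv, ht₃]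
      group
    rw [h1]
    exact V.mul_mem (hVn _ (conj_T' hxT t₁.2) _ ht₂V) (V.inv_mem ht₂V)
  have hr₂' : s.ι ⟨x⁻¹ * r * x, conj_T' hxT r.2⟩ ∉ centralizer (E₂ : Set P) := by
    rw [← hξi r]
    have h1 : (⟨s.ι r, ⟨r, rfl⟩⟩ : ↥s.ι.range) = ⁅w₁, ξ w₂⁆ := Subtype.ext hrι
    rw [h1]
    exact hr₂
  have hVC : V ≤ centralizerIn S Û := fun v hv =>
    ⟨hVS hv, mem_centralizer_iff.2 fun u hu => hVc u (hÛV hu) v hv⟩
  have hxV : ∀ v ∈ V, x * v * x⁻¹ ∈ centralizerIn S Û := by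
    intro v hv
    refine ⟨S.mul_mem (S.mul_mem hxS (hVS hv)) (S.inv_mem hxS), mem_centralizer_iff.2 fun u hu => ?_⟩
    have h1 := hVc _ (hÛV' u hu) v hv
    calc u * (x * v * x⁻¹) = x * (x⁻¹ * u * x * v) * x⁻¹ := by group
      _ = x * (v * (x⁻¹ * u * x)) * x⁻¹ := by rw [h1]
      _ = x * v * x⁻¹ * u := by group
  -- normality of the members of the chain
  have hCn' : ∀ i ≤ n, ∀ c ∈ C i, ∀ z ∈ centralizerIn S Û, z * c * z⁻¹ ∈ C i := by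
    intro i hi c hc z hz
    have h1 : C i ≤ centralizerIn S Û := by
      rw [← hCn]
      exact hCm hi
    have hCS : C i ≤ S := h1.trans inf_le_left
    have h2 := hCcl i (C i) le_rfl (conjHom (C i) z) ⟨F.conj_mem hCS hz.1, h1, fun a => ?_, ?_⟩ ⟨c, hc⟩
    · exact h2
    · exact (centralizerIn S Û).mul_mem ((centralizerIn S Û).mul_mem hz (h1 a.2)) ((centralizerIn S Û).inv_mem hz)
    · refine ⟨conjHom (C i ⊔ Û) z, F.conj_mem (sup_le hCS hÛS) hz.1, fun a => rfl, fun u => ?_⟩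
      show z * (u : Ω) * z⁻¹ = u
      rw [← mem_centralizer_iff.1 hz.2 u u.2, mul_inv_cancel_right]
  -- the two invariant subgroups
  have hX : ∀ (y : Ω) (hyS : y ∈ S) (E : Subgroup P) (i : ℕ),
      (∀ u ∈ Û, ∃ h : y⁻¹ * u * y ∈ T, s.ι ⟨_, h⟩ ∈ pCore 2 P ∧ ∀ e ∈ E, e * s.ι ⟨_, h⟩ = s.ι ⟨_, h⟩ * e) →
      (∀ X : Subgroup P, X ≤ pCore 2 P → E ≤ Subgroup.normalizer (X : Set P) →
        ¬ X ≤ Subgroup.centralizer (E : Set P) → ⁅pCore 2 P, E⁆ ≤ X) →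
      ∀ v, ∀ hv : v ∈ V, y * v * y⁻¹ ∈ C i → s.ι ⟨v, hVT hv⟩ ∉ centralizer (E : Set P) →
      ∀ w : T, s.ι w ∈ ⁅pCore 2 P, E⁆ → y * w * y⁻¹ ∈ C i := by
    intro y hyS E i hUE irr v hv hvC hvE w hw
    set X : Subgroup P := (((C i).comap (MulAut.conj y).toMonoidHom ⊓ V).subgroupOf T).map s.ι with hX
    have hmemX : ∀ {t : T}, s.ι t ∈ X ↔ y * t * y⁻¹ ∈ C i ∧ (t : Ω) ∈ V := by
      intro t
      constructor
      · rintro ⟨t', ⟨h1, h2⟩, h3⟩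
        have h4 : t' = t := s.inj h3
        rw [← h4]
        exact ⟨h1, h2⟩
      · rintro ⟨h1, h2⟩
        exact ⟨t, ⟨h1, h2⟩, rfl⟩
    have h1 : X ≤ pCore 2 P := by
      rintro _ ⟨t, ⟨-, h2⟩, rfl⟩
      obtain ⟨h3, h4⟩ := (mem_pre s).1 h2
      exact h4
    obtain ⟨Rs, hRs⟩ := s.syl
    have hQR : pCore 2 P ≤ s.ι.range := by
      rw [← hRs]
      exact Cfsg.Agent.Lib.Cores.pCore_le_sylow Rs
    have h2 : E ≤ normalizer (X : Set P) := by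
      rw [le_normalizer_iff]
      rintro e he _ ⟨t, ht, rfl⟩
      have h3 : (t : Ω) ∈ V := ht.2
      obtain ⟨h4, h5⟩ := (mem_pre s).1 h3
      have h6 : e * s.ι t * e⁻¹ ∈ pCore 2 P := hQn.conj_mem _ h5 e
      obtain ⟨t', ht'⟩ := hQR h6
      have h7 := inv_closed s hQc hyS (hCcl i) hUE (v := t) (v' := t') h3 ht.1 he t'.2 ht'
      rw [← ht', hmemX]
      refine ⟨h7, (mem_pre s).2 ⟨t'.2, ?_⟩⟩
      rw [show (⟨(t' : Ω), t'.2⟩ : T) = t' from rfl, ht']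
      exact h6
    have h3 : ¬ X ≤ centralizer (E : Set P) := by
      intro h4
      exact hvE (h4 (hmemX.2 ⟨hvC, hv⟩))
    exact (hmemX.1 (irr X h1 h2 h3 hw)).1
  -- the induction
  have key : ∀ i ≤ n, ∀ v, ∀ hv : v ∈ V, v ∈ C i → s.ι ⟨v, hVT hv⟩ ∈ centralizer (E₁ : Set P) := by
    intro i
    induction i with
    | zero =>
      intro _ v hv hvC
      rw [hC0, mem_bot] at hvC
      have h1 : (⟨v, hVT hv⟩ : T) = 1 := Subtype.ext hvC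
      rw [h1, map_one]
      exact (centralizer (E₁ : Set P)).one_mem
    | succ i ih =>
      intro hi v hv hvC
      by_contra hvE
      have h1 : (t₁ : Ω) ∈ C (i + 1) := by
        have h2 := hX 1 S.one_mem E₁ (i + 1) hU₁ irr₁ v hv (by
          have : (1 : Ω) * v * 1⁻¹ = v := by group
          rwa [this]) hvE t₁ (by rw [ht₁]; exact hw₁)
        have h3 : (1 : Ω) * t₁ * 1⁻¹ = t₁ := by group
        rwa [h3] at h2
      have h3 : (t₃ : Ω) ∈ centralizerIn S Û := hxV _ ht₂V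
      have h4 : (r : Ω) ∈ C (i + 1) := by
        have h5 : (r : Ω) = t₁ * (t₃ * (t₁ : Ω)⁻¹ * (t₃ : Ω)⁻¹) := by
          rw [hr, commutatorElement_def]
          simp only [Subgroup.coe_mul, Subgroup.coe_inv, mul_assoc]
        rw [h5]
        exact (C (i + 1)).mul_mem h1 (hCn' (i + 1) hi _ ((C (i + 1)).inv_mem h1) _ h3)
      have h5 : (t₃ : Ω) ∈ C (i + 1) := by
        refine hX x hxS E₂ (i + 1) hU₂ irr₂ (x⁻¹ * r * x) hrx ?_ hr₂' t₂ (by rw [ht₂]; exact hw₂)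
        have : x * (x⁻¹ * (r : Ω) * x) * x⁻¹ = r := by group
        rwa [this]
      have h6 : (r : Ω) ∈ C i := by
        have h7 : ⁅(t₁ : Ω), (t₃ : Ω)⁆ ∈ C i := hCc i (commutator_mem_commutator h1 h5)
        exact h7
      exact hr₁' (ih (by omega) r hrV h6)
  refine hr₁' (key n le_rfl r hrV ?_)
  rw [hCn]
  exact hVC hrV

end Cfsg.Agent.H647.HM
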