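import Cfsg.Agent.H647.HM.ConfGrp
import Cfsg.Agent.H647.HM.Kill

/-!
# S5175, T7d: the configuration (helper647)
-/

set_option autoImplicit false
set_option linter.unusedSectionVars false

namespace Cfsg.Agent.H647.HM

open Cfsg Cfsg.FusionSystem Cfsg.Agent.H756.HM Subgroup Cfsg.Agent.H802
open scoped commutatorElement

universe u

section grp

variable {P : Type u} [Group P] [Finite P] {T : Sylow 2 P} (d : BD (T : Subgroup P))
  {ξ : MulAut ↥(T : Subgroup P)} {t₀ : ↥(T : Subgroup P)}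

/-- `ψ` on all of `Q` -/
theorem ext_psi (hξ : ξ * ξ = MulAut.conj t₀) (sw : Swap (T : Subgroup P) ξ d) (hl : LinOne P d.W d.T0 d.q) :
    ∃ (K : Type) (_ : Field K) (_ : Fintype K) (n : ℕ), 1 ≤ n ∧ Fintype.card K = 2 ^ n ∧ Fintype.card K = d.q ∧
    ∃ (ρ : ↥(pResidual 2 P ⊔ d.T0) →* Matrix.SpecialLinearGroup (Fin 2) K)
      (ψ : ↥(pCore 2 P) →* Multiplicative (Fin 2 → K)),
      Function.Surjective ρ ∧ (∀ g, ρ g = 1 ↔ (g : P) ∈ pCore 2 P) ∧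
      Function.Surjective ψ ∧
      (∀ w : pCore 2 P, ψ w = 1 ↔ (w : P) ∈ centralizer ((pResidual 2 P ⊔ d.T0 : Subgroup P) : Set P)) ∧
      ∀ (e : ↥(pResidual 2 P ⊔ d.T0)) (w w' : ↥(pCore 2 P)), (w' : P) = (e : P) * (w : P) * (e : P)⁻¹ →
        Multiplicative.toAdd (ψ w') =
          ((ρ e : Matrix.SpecialLinearGroup (Fin 2) K) : Matrix (Fin 2) (Fin 2) K).mulVec
            (Multiplicative.toAdd (ψ w)) := by
  have hl0 := hl
  obtain ⟨K, _, _, n, hn, hK, hq, ρ, ψ, hρ, hker, hψ, hψk, hψe⟩ := hl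
  have hWn := d.W_normal
  have hQn := Q_normal (P := P)
  have hKle : centralizer ((pResidual 2 P ⊔ d.T0 : Subgroup P) : Set P) ≤ centralizer (pResidual 2 P : Set P) :=
    centralizer_le (SetLike.coe_subset_coe.2 le_sup_left)
  have hcW : ∀ w ∈ d.W, w ∈ centralizer (pResidual 2 P : Set P) →
      w ∈ centralizer ((pResidual 2 P ⊔ d.T0 : Subgroup P) : Set P) := by
    intro w hw hwK
    have h1 : pResidual 2 P ⊔ d.T0 ≤ centralizer ({w} : Set P) := by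
      refine sup_le ?_ ?_
      · intro k hk
        exact mem_cen1.2 (mem_centralizer_iff.1 hwK k hk).symm
      · intro a ha
        exact mem_cen1.2 (W_cent d hl0 hw hwK ha).symm
    exact mem_centralizer_iff.2 fun g hg => (mem_cen1.1 (h1 hg)).symm
  choose f hf hf2 using fun (v : ↥(pCore 2 P)) => Q_split d hξ sw hl0 v.2
  have key : ∀ (v : ↥(pCore 2 P)) (w : P) (hw : w ∈ d.W),
      w⁻¹ * (v : P) ∈ centralizer ((pResidual 2 P ⊔ d.T0 : Subgroup P) : Set P) →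
      ψ ⟨f v, hf v⟩ = ψ ⟨w, hw⟩ := by
    intro v w hw h1
    have h2 : w⁻¹ * f v ∈ centralizer ((pResidual 2 P ⊔ d.T0 : Subgroup P) : Set P) := by
      have h3 := (centralizer ((pResidual 2 P ⊔ d.T0 : Subgroup P) : Set P)).mul_mem h1
        ((centralizer ((pResidual 2 P ⊔ d.T0 : Subgroup P) : Set P)).inv_mem (hf2 v))
      have h4 : w⁻¹ * (v : P) * ((f v)⁻¹ * (v : P))⁻¹ = w⁻¹ * f v := by group
      rwa [h4] at h3
    have h3 : ψ (⟨w, hw⟩⁻¹ * ⟨f v, hf v⟩) = 1 := (hψk _).2 (hKle h2)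
    rw [map_mul, map_inv, inv_mul_eq_one] at h3
    exact h3.symm
  let ψ' : ↥(pCore 2 P) →* Multiplicative (Fin 2 → K) := MonoidHom.mk' (fun v => ψ ⟨f v, hf v⟩) (by
    intro a b
    rw [← map_mul]
    refine key (a * b) (f a * f b) (d.W.mul_mem (hf a) (hf b)) ?_
    have h1 : (f a * f b)⁻¹ * ((a * b : ↥(pCore 2 P)) : P) = ((f a)⁻¹ * (a : P)) * ((f b)⁻¹ * (b : P)) := by
      have h2 : (f b)⁻¹ * ((f a)⁻¹ * (a : P)) = ((f a)⁻¹ * (a : P)) * (f b)⁻¹ :=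
        sw.comm _ ((pCore 2 P).inv_mem (d.W_le (hf b))) _
          ((pCore 2 P).mul_mem ((pCore 2 P).inv_mem (d.W_le (hf a))) a.2)
      rw [Subgroup.coe_mul, mul_inv_rev]
      calc (f b)⁻¹ * (f a)⁻¹ * ((a : P) * b) = (f b)⁻¹ * ((f a)⁻¹ * (a : P)) * b := by group
        _ = _ := by rw [h2]; group
    rw [h1]
    exact (centralizer ((pResidual 2 P ⊔ d.T0 : Subgroup P) : Set P)).mul_mem (hf2 a) (hf2 b))
  have hψ' : ∀ v, ψ' v = ψ ⟨f v, hf v⟩ := fun v => rfl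
  refine ⟨K, inferInstance, inferInstance, n, hn, hK, hq, ρ, ψ', hρ, hker, ?_, ?_, ?_⟩
  · intro y
    obtain ⟨w, rfl⟩ := hψ y
    refine ⟨⟨w, d.W_le w.2⟩, ?_⟩
    rw [hψ']
    refine key _ w w.2 ?_
    show (w : P)⁻¹ * w ∈ _
    rw [inv_mul_cancel]
    exact one_mem _
  · intro v
    rw [hψ', hψk]
    constructor
    · intro h1
      have h2 := hcW _ (hf v) h1
      have h3 := (centralizer ((pResidual 2 P ⊔ d.T0 : Subgroup P) : Set P)).mul_mem h2 (hf2 v)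
      rwa [mul_inv_cancel_left] at h3
    · intro h1
      have h3 := (centralizer ((pResidual 2 P ⊔ d.T0 : Subgroup P) : Set P)).mul_mem h1
        ((centralizer ((pResidual 2 P ⊔ d.T0 : Subgroup P) : Set P)).inv_mem (hf2 v))
      have h4 : (v : P) * ((f v)⁻¹ * (v : P))⁻¹ = f v := by group
      rw [h4] at h3
      exact hKle h3
  · intro e w w' h
    have h1 : (e : P) * f w * (e : P)⁻¹ ∈ d.W := hWn.conj_mem _ (hf w) _
    have h2 : ψ' w' = ψ ⟨(e : P) * f w * (e : P)⁻¹, h1⟩ := by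
      rw [hψ']
      refine key w' _ h1 ?_
      rw [h]
      have h3 : ((e : P) * f w * (e : P)⁻¹)⁻¹ * ((e : P) * w * (e : P)⁻¹) = e * ((f w)⁻¹ * w) * (e : P)⁻¹ := by group
      rw [h3, mem_centralizer_iff.1 (hf2 w) e e.2, mul_inv_cancel_right]
      exact hf2 w
    rw [h2]
    exact hψe e ⟨f w, hf w⟩ _ rfl

end grp

section fus

variable {Ω : Type u} [Group Ω] {S : Subgroup Ω} {F : FusionSystem S} {T : Subgroup Ω} {P : Type u} [Group P]
  (s : Sit F T P)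

/-- the isomorphism of the preimage with a subgroup of the image -/
noncomputable def sig {Q : Subgroup P} (hQ : Q ≤ s.ι.range) : ↥(pre s Q) ≃* ↥Q :=
  MulEquiv.ofBijective
    (MonoidHom.mk' (fun v : ↥(pre s Q) => (⟨s.ι ⟨v, ((mem_pre s).1 v.2).1⟩, ((mem_pre s).1 v.2).2⟩ : ↥Q)) (by
      intro a b
      apply Subtype.ext
      exact map_mul s.ι ⟨a, ((mem_pre s).1 a.2).1⟩ ⟨b, ((mem_pre s).1 b.2).1⟩))
    (by
      constructor
      · intro a b h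
        have h1 : s.ι ⟨a, ((mem_pre s).1 a.2).1⟩ = s.ι ⟨b, ((mem_pre s).1 b.2).1⟩ := congrArg Subtype.val h
        have h2 := congrArg Subtype.val (s.inj h1)
        exact Subtype.ext h2
      · intro y
        obtain ⟨t, ht⟩ := hQ y.2
        exact ⟨⟨t, (mem_pre s).2 ⟨t.2, by rw [Subtype.coe_eta, ht]; exact y.2⟩⟩, Subtype.ext ht⟩)

theorem sig_apply {Q : Subgroup P} (hQ : Q ≤ s.ι.range) (v : ↥(pre s Q)) (h : (v : Ω) ∈ T) :
    (sig s hQ v : P) = s.ι ⟨v, h⟩ := rfl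

end fus

theorem conf_aux {Ω : Type u} [Group Ω] {S : Subgroup Ω} [Finite S] (F : FusionSystem S)
    (T : Subgroup Ω) (P : Type u) [Group P] (s : Sit F T P) (x : Ω) (hxS : x ∈ S)
    (hxT : x ∈ Subgroup.normalizer (T : Set Ω)) (hx1 : x ∉ T) (hx2 : x ^ 2 ∈ T) [Finite P]
    (R : Subgroup P) (hR : R = s.ι.range) (hsyl : ∃ R' : Sylow 2 P, (R' : Subgroup P) = R)
    (ξ : MulAut ↥R) (hξ : ∀ t : T, ∀ ht : s.ι t ∈ R, ((ξ ⟨s.ι t, ht⟩ : ↥R) : P) =
      s.ι ⟨x * t * x⁻¹, conj_T hxT t.2⟩)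
    (d : BD R) (sw : Swap R ξ d) (hl : LinOne P d.W d.T0 d.q) :
    ∃ (K : Type) (_ : Field K) (_ : Fintype K) (V : Subgroup Ω), Nonempty (Conf F K V T x) := by
  classical
  obtain ⟨Rs, rfl⟩ := hsyl
  have hιR : ∀ t : T, s.ι t ∈ (Rs : Subgroup P) := fun t => by rw [hR]; exact ⟨t, rfl⟩
  -- `ξ²` is inner
  have hξξ : ξ * ξ = MulAut.conj (⟨s.ι ⟨x ^ 2, hx2⟩, hιR _⟩ : ↥(Rs : Subgroup P)) := by
    ext ⟨y, hy⟩
    have hy' := hy
    rw [hR] at hy'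
    obtain ⟨t, rfl⟩ := hy'
    have h1 : (ξ ⟨s.ι t, hy⟩ : ↥(Rs : Subgroup P)) = ⟨s.ι ⟨x * t * x⁻¹, conj_T hxT t.2⟩, hιR _⟩ :=
      Subtype.ext (hξ t hy)
    rw [MulAut.mul_apply, h1, hξ]
    show _ = s.ι ⟨x ^ 2, hx2⟩ * s.ι t * (s.ι ⟨x ^ 2, hx2⟩)⁻¹
    rw [← map_inv, ← map_mul, ← map_mul]
    congr 1
    apply Subtype.ext
    show x * (x * (t : Ω) * x⁻¹) * x⁻¹ = x ^ 2 * t * (x ^ 2)⁻¹
    rw [pow_two, mul_inv_rev]
    simp only [mul_assoc]
  obtain ⟨K, _, _, n, hn, hK, hq, ρ, ψ, hρ, hker, hψ, hψk, hψe⟩ := ext_psi d hξξ sw hl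
  have hQn : (pCore 2 P).Normal := Q_normal
  have hQR : pCore 2 P ≤ s.ι.range := by
    rw [← hR]
    exact Q_le
  have hVT : pre s (pCore 2 P) ≤ T := pre_le s _
  have hVS : pre s (pCore 2 P) ≤ S := hVT.trans s.T_le
  have hfT : Finite ↥T := finite_of_le s.T_le
  -- the isomorphism
  obtain ⟨V, hV⟩ : ∃ V, V = pre s (pCore 2 P) := ⟨_, rfl⟩
  rw [← hV] at hVT hVS
  obtain ⟨σ, hσ⟩ : ∃ σ : ↥V ≃* ↥(pCore 2 P), ∀ (v : V) (h : (v : Ω) ∈ T), (σ v : P) = s.ι ⟨v, h⟩ := by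
    subst hV
    exact ⟨sig s hQR, fun v h => sig_apply s hQR v h⟩
  have hmemV : ∀ {v : Ω}, v ∈ V ↔ ∃ h : v ∈ T, s.ι ⟨v, h⟩ ∈ pCore 2 P := by
    intro v
    rw [hV]
    exact mem_pre s
  -- the action
  let θ : ↥(pResidual 2 P ⊔ d.T0) →* MulAut ↥V :=
    (MulAut.congr σ.symm).toMonoidHom.comp ((MulAut.conjNormal (H := pCore 2 P)).comp (pResidual 2 P ⊔ d.T0).subtype)
  have hθ : ∀ (g : ↥(pResidual 2 P ⊔ d.T0)) (v : V), (σ (θ g v) : P) = g * σ v * (g : P)⁻¹ := by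
    intro g v
    have h1 : θ g v = σ.symm (MulAut.conjNormal (g : P) (σ v)) := rfl
    rw [h1, MulEquiv.apply_symm_apply, MulAut.conjNormal_apply]
  have hθk : θ.ker = ρ.ker := by
    ext g
    rw [MonoidHom.mem_ker, MonoidHom.mem_ker, hker]
    constructor
    · intro h
      apply s.char2
      refine mem_centralizer_iff.2 fun y hy => ?_
      have h1 := hθ g (σ.symm ⟨y, hy⟩)
      rw [h, MulAut.one_apply, MulEquiv.apply_symm_apply] at h1
      have h2 : y = g * y * (g : P)⁻¹ := h1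
      calc y * (g : P) = g * y * (g : P)⁻¹ * g := by rw [← h2]
        _ = g * y := by group
    · intro h
      ext v
      have h1 : σ (θ g v) = σ v := by
        apply Subtype.ext
        rw [hθ, sw.comm _ h _ (σ v).2, mul_inv_cancel_right]
      rw [σ.injective h1, MulAut.one_apply]
  let ρ' : ↥θ.range ≃* Matrix.SpecialLinearGroup (Fin 2) K :=
    (QuotientGroup.quotientKerEquivRange θ).symm.trans
      ((QuotientGroup.quotientMulEquivOfEq hθk).trans (QuotientGroup.quotientKerEquivOfSurjective ρ hρ))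
  have hρ' : ∀ g (h : θ g ∈ θ.range), ρ' ⟨θ g, h⟩ = ρ g := by
    intro g h
    have h1 : (QuotientGroup.quotientKerEquivRange θ).symm ⟨θ g, h⟩ = QuotientGroup.mk g := by
      rw [MulEquiv.symm_apply_eq]
      rfl
    show (QuotientGroup.quotientKerEquivOfSurjective ρ hρ) ((QuotientGroup.quotientMulEquivOfEq hθk)
      ((QuotientGroup.quotientKerEquivRange θ).symm ⟨θ g, h⟩)) = _
    rw [h1]
    rfl
  -- conjugation by elements of `T`
  have hT0n : ∀ t ∈ (Rs : Subgroup P), ∀ a ∈ d.T0, t * a * t⁻¹ ∈ d.T0 := by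
    have h1 : (d.T0.subgroupOf (Rs : Subgroup P)).Normal := by
      rw [← sw.T0]
      exact @sup_normal _ _ _ _ Qs_normal (tw_normal Qs_normal)
    intro t ht a ha
    exact h1.conj_mem ⟨a, d.T0_le ha⟩ ha ⟨t, ht⟩
  have hconj : ∀ (t : T) (v : V) (h : (t : Ω) * v * (t : Ω)⁻¹ ∈ V),
      (σ ⟨t * v * (t : Ω)⁻¹, h⟩ : P) = s.ι t * σ v * (s.ι t)⁻¹ := by
    intro t v h
    rw [hσ _ (hVT h), hσ v (hVT v.2), ← map_inv, ← map_mul, ← map_mul]
    rfl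
  have hVn : ∀ t ∈ T, ∀ v ∈ V, t * v * t⁻¹ ∈ V := by
    intro t ht v hv
    obtain ⟨h1, h2⟩ := hmemV.1 hv
    refine hmemV.2 ⟨T.mul_mem (T.mul_mem ht h1) (T.inv_mem ht), ?_⟩
    have h3 : (⟨t * v * t⁻¹, T.mul_mem (T.mul_mem ht h1) (T.inv_mem ht)⟩ : T) = ⟨t, ht⟩ * ⟨v, h1⟩ * ⟨t, ht⟩⁻¹ := rfl
    rw [h3, map_mul, map_mul, map_inv]
    exact hQn.conj_mem _ h2 _
  -- `x V x⁻¹` maps into `T₀`
  have hxV : ∀ (v : V) (h : x * v * x⁻¹ ∈ T), s.ι ⟨x * v * x⁻¹, h⟩ ∈ d.T0 := by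
    intro v h
    obtain ⟨h1, h2⟩ := hmemV.1 v.2
    have h3 : (ξ ⟨s.ι ⟨v, h1⟩, hιR _⟩ : ↥(Rs : Subgroup P)) ∈ d.T0.subgroupOf (Rs : Subgroup P) := by
      rw [← sw.T0]
      apply mem_sup_right
      exact ⟨_, h2, rfl⟩
    rw [mem_subgroupOf, hξ] at h3
    exact h3
  have hfix : ∀ v : V, (v : Ω) ∈ fixS V θ.range ↔
      (σ v : P) ∈ centralizer ((pResidual 2 P ⊔ d.T0 : Subgroup P) : Set P) := by
    intro v
    constructor
    · rintro ⟨v', hv', h⟩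
      obtain rfl : v' = v := Subtype.ext h
      refine mem_centralizer_iff.2 fun g hg => ?_
      have h1 := hθ ⟨g, hg⟩ v'
      rw [hv' _ ⟨_, rfl⟩] at h1
      have h2 : (σ v' : P) = g * σ v' * g⁻¹ := h1
      calc g * (σ v' : P) = g * σ v' * g⁻¹ * g := by group
        _ = σ v' * g := by rw [← h2]
    · intro h
      refine ⟨v, ?_, rfl⟩
      rintro _ ⟨g, rfl⟩
      apply σ.injective
      apply Subtype.ext
      rw [hθ, mem_centralizer_iff.1 h g g.2, mul_inv_cancel_right]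
  have hmapV : (V.subgroupOf T).map s.ι = pCore 2 P := by
    ext y
    constructor
    · rintro ⟨t, ht, rfl⟩
      obtain ⟨h1, h2⟩ := hmemV.1 ht
      exact h2
    · intro hy
      obtain ⟨t, rfl⟩ := hQR hy
      exact ⟨t, hmemV.2 ⟨t.2, hy⟩, rfl⟩
  have hV1 : V ≠ ⊥ := by
    intro h
    have h1 : pCore 2 P = ⊥ := by
      rw [← hmapV, h]
      simp
    apply s.T_ne
    rw [eq_bot_iff]
    intro t ht
    have h2 : s.ι ⟨t, ht⟩ ∈ centralizer (pCore 2 P : Set P) := by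
      rw [h1]
      refine mem_centralizer_iff.2 fun y hy => ?_
      rw [coe_bot, Set.mem_singleton_iff] at hy
      rw [hy, one_mul, mul_one]
    have h3 := s.char2 h2
    rw [h1, mem_bot] at h3
    have h4 : (⟨t, ht⟩ : T) = 1 := s.inj (by rw [h3, map_one])
    exact congrArg Subtype.val h4
  obtain ⟨hfn, hnor⟩ := s.fnorm V hVT hV1 (by rw [hmapV]; exact hQn)
  have hA : autInducedBy (cj x V) V = (θ.comp (inclusion (le_sup_right : d.T0 ≤ pResidual 2 P ⊔ d.T0))).range := by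
    ext α
    rw [mem_autInducedBy_iff]
    constructor
    · rintro ⟨_, ⟨v, hv, rfl⟩, hα⟩
      have h1 : x * v * x⁻¹ ∈ T := conj_T hxT (hVT hv)
      refine ⟨⟨s.ι ⟨x * v * x⁻¹, h1⟩, hxV ⟨v, hv⟩ h1⟩, ?_⟩
      ext w
      have h2 : σ (θ (inclusion le_sup_right ⟨s.ι ⟨x * v * x⁻¹, h1⟩, hxV ⟨v, hv⟩ h1⟩) w) = σ (α w) := by
        apply Subtype.ext
        rw [hθ]
        have h3 : α w = ⟨x * v * x⁻¹ * w * (x * v * x⁻¹)⁻¹, hVn _ h1 _ w.2⟩ := Subtype.ext (hα w)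
        rw [h3]
        exact (hconj ⟨x * v * x⁻¹, h1⟩ w _).symm
      exact congrArg Subtype.val (σ.injective h2)
    · rintro ⟨⟨a, ha⟩, rfl⟩
      have ha' : (⟨a, d.T0_le ha⟩ : ↥(Rs : Subgroup P)) ∈ d.T0.subgroupOf (Rs : Subgroup P) := ha
      rw [← sw.T0, ← SetLike.mem_coe, @normal_mul _ _ _ _ Qs_normal] at ha'
      obtain ⟨q, hq, _, ⟨q', hq', rfl⟩, h1⟩ := ha'
      have h1' : (q : P) * (ξ q' : ↥(Rs : Subgroup P)) = a := congrArg Subtype.val h1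
      obtain ⟨v, hv⟩ := σ.surjective ⟨q', hq'⟩
      have hv2 : (⟨s.ι ⟨v, hVT v.2⟩, hιR _⟩ : ↥(Rs : Subgroup P)) = q' := by
        apply Subtype.ext
        show s.ι ⟨v, hVT v.2⟩ = q'
        rw [← hσ v (hVT v.2), hv]
      have hv3 : ((ξ q' : ↥(Rs : Subgroup P)) : P) = s.ι ⟨x * v * x⁻¹, conj_T hxT (hVT v.2)⟩ := by
        rw [← hv2, hξ]
      refine ⟨x * v * x⁻¹, ⟨v, v.2, rfl⟩, fun w => ?_⟩
      have h2 : (σ (θ (inclusion (le_sup_right : d.T0 ≤ pResidual 2 P ⊔ d.T0) ⟨a, ha⟩) w) : P) =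
          (σ ⟨x * v * x⁻¹ * w * (x * v * x⁻¹)⁻¹, hVn _ (conj_T hxT (hVT v.2)) _ w.2⟩ : P) := by
        rw [hθ]
        have h3 := hconj ⟨x * v * x⁻¹, conj_T hxT (hVT v.2)⟩ w (hVn _ (conj_T hxT (hVT v.2)) _ w.2)
        refine Eq.trans ?_ h3.symm
        show a * σ w * a⁻¹ = _
        rw [← h1', hv3]
        have hwQ := hQn.conj_mem _ (σ w).2 (s.ι ⟨x * v * x⁻¹, conj_T hxT (hVT v.2)⟩)
        have h4 : (q : P) * _ = _ * (q : P) := sw.comm _ hq _ hwQ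
        rw [mul_inv_rev]
        calc (q : P) * s.ι ⟨x * v * x⁻¹, conj_T hxT (hVT v.2)⟩ * (σ w : P) *
              ((s.ι ⟨x * v * x⁻¹, conj_T hxT (hVT v.2)⟩)⁻¹ * (q : P)⁻¹) =
            (q : P) * (s.ι ⟨x * v * x⁻¹, conj_T hxT (hVT v.2)⟩ * (σ w : P) *
              (s.ι ⟨x * v * x⁻¹, conj_T hxT (hVT v.2)⟩)⁻¹) * (q : P)⁻¹ := by group
          _ = _ := by rw [h4, mul_inv_cancel_right]
      exact congrArg Subtype.val (σ.injective (Subtype.ext h2))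
  refine ⟨K, inferInstance, inferInstance, V, ⟨{
    n := n
    hn := hn
    hK := hK
    V_le := hVS
    fn := hfn
    nor := hnor
    cent := ?_
    el := ?_
    x_mem := hxS
    x_nor := hxT
    x_not := hx1
    x_sq := hx2
    E := θ.range
    E_le := ?_
    ρ := ρ'
    ψ := ψ.comp σ.toMonoidHom
    ψ_surj := hψ.comp σ.surjective
    ψ_ker := ?_
    ψ_eq := ?_
    A_le := ?_
    A_card := ?_
    T_nor := ?_
    DD := ?_ }⟩⟩
  · ext t
    constructor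
    · rintro ⟨htS, ht⟩
      have h1 : t ∈ T := by
        rw [← hnor]
        refine ⟨htS, ?_⟩
        exact centralizer_le_normalizer _ ht
      refine hmemV.2 ⟨h1, ?_⟩
      rw [← sw.CT]
      refine ⟨hιR _, mem_centralizer_iff.2 fun y hy => ?_⟩
      obtain ⟨t', rfl⟩ := hQR hy
      rw [← map_mul, ← map_mul]
      congr 1
      apply Subtype.ext
      exact mem_centralizer_iff.1 ht _ (hmemV.2 ⟨t'.2, hy⟩)
    · intro ht
      refine ⟨hVS ht, mem_centralizer_iff.2 fun v hv => ?_⟩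
      have h1 : (⟨v, hv⟩ : V) * ⟨t, ht⟩ = ⟨t, ht⟩ * ⟨v, hv⟩ := by
        apply σ.injective
        apply Subtype.ext
        rw [map_mul, map_mul]
        exact sw.comm _ (σ _).2 _ (σ _).2
      exact congrArg Subtype.val h1
  · intro v hv
    have h1 : (⟨v, hv⟩ : V) ^ 2 = 1 := by
      apply σ.injective
      apply Subtype.ext
      rw [map_pow, map_one]
      exact sw.sq _ (σ _).2
    exact congrArg Subtype.val h1
  · rintro _ ⟨g, rfl⟩
    rw [mem_autGroup_iff F hVS]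
    refine s.fus V hVT g _ (fun a => hVT (θ g a).2) ?_
    intro a
    have h1 := hθ g a
    rw [hσ _ (hVT (θ g a).2), hσ _ (hVT a.2)] at h1
    exact h1
  · intro v
    rw [hfix]
    exact hψk (σ v)
  · rintro ⟨_, ⟨g, rfl⟩⟩ v
    have h1 := hψe g (σ v) (σ (θ g v)) (hθ g v)
    rw [← hρ' g ⟨g, rfl⟩] at h1
    exact h1
  · rw [hA]
    rintro _ ⟨a, rfl⟩
    exact ⟨_, rfl⟩
  · rw [hA, ← index_ker, hq, ← (idx_T0 d hl).1, relIndex]
    congr 1
    ext a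
    rw [MonoidHom.mem_ker, mem_subgroupOf, MonoidHom.comp_apply, ← MonoidHom.mem_ker, hθk, MonoidHom.mem_ker, hker]
    rfl
  · rintro t ht _ ⟨g, rfl⟩
    obtain ⟨t', ht', h1⟩ := (mem_autInducedBy_iff _ _ _).1 ht
    have hg : s.ι ⟨t', ht'⟩ * (g : P) * (s.ι ⟨t', ht'⟩)⁻¹ ∈ pResidual 2 P ⊔ d.T0 := by
      have h2 : pResidual 2 P ⊔ d.T0 ≤ (pResidual 2 P ⊔ d.T0).comap (MulAut.conj (s.ι ⟨t', ht'⟩)).toMonoidHom := by
        refine sup_le ?_ ?_
        · intro k hk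
          exact mem_sup_left (K_normal.conj_mem _ hk _)
        · intro a ha
          exact mem_sup_right (hT0n _ (hιR _) _ ha)
      exact h2 g.2
    refine ⟨⟨_, hg⟩, ?_⟩
    rw [eq_mul_inv_iff_mul_eq]
    ext v
    have h2 : σ (θ ⟨_, hg⟩ (t v)) = σ (t (θ g v)) := by
      apply Subtype.ext
      rw [hθ]
      have h3 : t v = ⟨t' * v * t'⁻¹, hVn _ ht' _ v.2⟩ := Subtype.ext (h1 v)
      have h4 : t (θ g v) = ⟨t' * (θ g v : V) * t'⁻¹, hVn _ ht' _ (θ g v).2⟩ := Subtype.ext (h1 _)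
      rw [h3, h4, hconj ⟨t', ht'⟩, hconj ⟨t', ht'⟩, hθ]
      group
    exact congrArg Subtype.val (σ.injective h2)
  · rw [eq_bot_iff]
    rintro _ ⟨hv1, ⟨u, hu, rfl⟩⟩
    have hle : fixS V θ.range ≤ V := map_subtype_le _
    have hv1' : x * u * x⁻¹ ∈ fixS V θ.range := hv1
    have huV := hle hu
    have hvV := hle hv1'
    have hcl : centralizer ((pResidual 2 P ⊔ d.T0 : Subgroup P) : Set P) ≤ centralizer (pResidual 2 P : Set P) :=
      centralizer_le (SetLike.coe_subset_coe.2 le_sup_left)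
    have h1 := hcl ((hfix ⟨u, huV⟩).1 hu)
    have h2 := hcl ((hfix ⟨_, hvV⟩).1 hv1')
    have hu' := (σ ⟨u, huV⟩).2
    have hv' := (σ ⟨_, hvV⟩).2
    rw [hσ _ (hVT huV)] at h1 hu'
    rw [hσ _ (hVT hvV)] at h2 hv'
    have h3 : (⟨s.ι ⟨x * u * x⁻¹, hVT hvV⟩, hιR _⟩ : ↥(Rs : Subgroup P)) = 1 := by
      rw [← mem_bot, ← sw.DD]
      refine ⟨⟨hv', h2⟩, ⟨⟨s.ι ⟨u, hVT huV⟩, hιR _⟩, ⟨hu', h1⟩, ?_⟩⟩
      apply Subtype.ext
      exact hξ ⟨u, hVT huV⟩ (hιR _)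
    have h4 : s.ι ⟨x * u * x⁻¹, hVT hvV⟩ = s.ι 1 := by
      rw [map_one]
      exact congrArg Subtype.val h3
    have h5 := congrArg Subtype.val (s.inj h4)
    exact h5

/-- T7d -/
theorem stConf : StConf.{u} := by
  intro Ω _ S _ hp F hF T P _ s x hxS hxT hx1 hx2 ξ hξ d sw hl
  have hfin := s.fin
  exact conf_aux F T P s x hxS hxT hx1 hx2 s.ι.range rfl s.syl ξ (fun t ht => hξ t _) d sw hl

end Cfsg.Agent.H647.HM
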