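import Cfsg.Agent.H647.HM.TwoDir
import Cfsg.Agent.S0242

/-!
# S5175, T7d, group part (helper647)
-/

set_option autoImplicit false
set_option linter.unusedSectionVars false

namespace Cfsg.Agent.H647.HM

open Cfsg Cfsg.Agent.H756.HM Subgroup
open scoped commutatorElement

universe u

theorem sl_card {K : Type} [Field K] [Fintype K] {q : ℕ} (hq : Fintype.card K = q) :
    Nat.card (Matrix.SpecialLinearGroup (Fin 2) K) = q * (q ^ 2 - 1) := by
  have h2 := Cfsg.Agent.S0242.result hq 2 (by norm_num)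
  rw [Fin.prod_univ_two] at h2
  have h1 : 2 ≤ q := hq ▸ Fintype.one_lt_card
  have h3 : (q ^ 2 - q ^ ((0 : Fin 2) : ℕ)) * (q ^ 2 - q ^ ((1 : Fin 2) : ℕ)) = (q - 1) * (q * (q ^ 2 - 1)) := by
    show (q ^ 2 - q ^ 0) * (q ^ 2 - q ^ 1) = _
    rw [pow_zero, pow_one]
    have h4 : q ^ 2 - q = q * (q - 1) := by rw [Nat.mul_sub, mul_one, pow_two]
    rw [h4]
    ring
  rw [h3] at h2
  exact Nat.eq_of_mul_eq_mul_left (by omega) h2

/-- averaging over the cosets of a subgroup of odd index -/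
theorem avg {G : Type*} [Group G] [Finite G] {Q W H L : Subgroup G} (hQn : Q.Normal)
    (hc : ∀ a ∈ Q, ∀ b ∈ Q, a * b = b * a) (hs : ∀ a ∈ Q, a ^ 2 = 1) (ho : Odd (H.relIndex L)) {z : G}
    (hz : z ∈ Q) (hH : ∀ h ∈ H, h * z = z * h) (hW : ∀ g ∈ L, g * z * g⁻¹ * z⁻¹ ∈ W) :
    ∃ w ∈ W, w * z ∈ centralizer (L : Set G) := by
  classical
  letI : CommGroup ↥Q := { (inferInstance : Group ↥Q) with mul_comm := fun a b => Subtype.ext (hc a a.2 b b.2) }
  let X := ↥L ⧸ H.subgroupOf L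
  haveI : Fintype X := Fintype.ofFinite _
  let f : X → ↥Q := fun c => ⟨(c.out : G) * z * (c.out : G)⁻¹, hQn.conj_mem z hz _⟩
  have hf : ∀ (g : L) (c : X), MulAut.conjNormal (g : G) (f c) = f (g • c) := by
    intro g c
    have h1 : ((g * c.out)⁻¹ * (g • c).out : ↥L) ∈ H.subgroupOf L := by
      rw [← QuotientGroup.eq]
      have h2 : ((g • c).out : X) = g • c := Quotient.out_eq' _
      have h3 : (((g * c.out : ↥L)) : X) = g • c := by
        conv_rhs => rw [← Quotient.out_eq' c]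
        rfl
      rw [h3]
      exact h2.symm
    have h4 : (((g * c.out)⁻¹ * (g • c).out : ↥L) : G) * z = z * (((g * c.out)⁻¹ * (g • c).out : ↥L) : G) := hH _ h1
    apply Subtype.ext
    rw [MulAut.conjNormal_apply]
    show (g : G) * ((c.out : G) * z * (c.out : G)⁻¹) * (g : G)⁻¹ = ((g • c).out : G) * z * ((g • c).out : G)⁻¹
    have h5 : ((g • c).out : G) = g * c.out * (((g * c.out)⁻¹ * (g • c).out : ↥L) : G) := by
      simp only [Subgroup.coe_mul, Subgroup.coe_inv]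
      group
    rw [h5, mul_assoc ((g : G) * c.out), h4]
    group
  let N : ↥Q := ∏ c : X, f c
  have hN : ∀ g : L, (g : G) * N * (g : G)⁻¹ = N := by
    intro g
    have h1 : MulAut.conjNormal (g : G) N = N := by
      show MulAut.conjNormal (g : G) (∏ c : X, f c) = ∏ c : X, f c
      rw [map_prod]
      rw [← Equiv.prod_comp (MulAction.toPerm g) f]
      exact Finset.prod_congr rfl fun c _ => hf g c
    have h2 := congrArg Subtype.val h1
    rwa [MulAut.conjNormal_apply] at h2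
  have hNz : (N : G) * z⁻¹ ∈ W := by
    have h1 : QuotientGroup.mk' (W.subgroupOf Q) N = QuotientGroup.mk' (W.subgroupOf Q) ⟨z, hz⟩ := by
      show QuotientGroup.mk' (W.subgroupOf Q) (∏ c : X, f c) = _
      rw [map_prod]
      have h2 : ∀ c ∈ (Finset.univ : Finset X), QuotientGroup.mk' (W.subgroupOf Q) (f c) =
          QuotientGroup.mk' (W.subgroupOf Q) ⟨z, hz⟩ := by
        intro c _
        rw [← mul_inv_eq_one, ← map_inv, ← map_mul, QuotientGroup.mk'_apply, QuotientGroup.eq_one_iff]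
        exact hW _ c.out.2
      rw [Finset.prod_congr rfl h2, Finset.prod_const, Finset.card_univ, ← map_pow]
      congr 1
      have h3 : Fintype.card X = H.relIndex L := by
        rw [← Nat.card_eq_fintype_card]
        rfl
      rw [h3]
      obtain ⟨k, hk⟩ := ho
      rw [hk, pow_succ, pow_mul]
      have h4 : (⟨z, hz⟩ : ↥Q) ^ 2 = 1 := Subtype.ext (hs z hz)
      rw [h4, one_pow, one_mul]
    rw [← mul_inv_eq_one, ← map_inv, ← map_mul, QuotientGroup.mk'_apply, QuotientGroup.eq_one_iff] at h1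
    exact h1
  refine ⟨N * z⁻¹, hNz, mem_centralizer_iff.2 fun g hg => ?_⟩
  rw [inv_mul_cancel_right]
  have h1 := hN ⟨g, hg⟩
  calc g * (N : G) = g * N * g⁻¹ * g := by group
    _ = N * g := by rw [h1]

section grp

variable {P : Type u} [Group P] [Finite P] {T : Sylow 2 P} (d : BD (T : Subgroup P))

theorem idx_T0 (hl : LinOne P d.W d.T0 d.q) : (pCore 2 P).relIndex d.T0 = d.q ∧
    Odd (d.T0.relIndex (pResidual 2 P ⊔ d.T0)) := by
  obtain ⟨K, _, _, n, hn, hK, hq, ρ, ψ, hρ, hker, -, -, -⟩ := hl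
  have hQT := d.Q_le_T0
  have h1 : (pCore 2 P).relIndex (pResidual 2 P ⊔ d.T0) = d.q * (d.q ^ 2 - 1) := by
    rw [← sl_card hq]
    have h2 : (pCore 2 P).subgroupOf (pResidual 2 P ⊔ d.T0) = ρ.ker := by
      ext g
      rw [MonoidHom.mem_ker, hker, mem_subgroupOf]
    rw [relIndex, h2, index_ker, MonoidHom.range_eq_top.2 hρ, Nat.card_congr Subgroup.topEquiv.toEquiv]
  have h2 := relIndex_mul_relIndex (pCore 2 P) d.T0 (pResidual 2 P ⊔ d.T0) hQT le_sup_right
  rw [h1] at h2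
  have h3 : ∃ a, (pCore 2 P).relIndex d.T0 = 2 ^ a := by
    have h4 : IsPGroup 2 ↥d.T0 := T.isPGroup'.to_le d.T0_le
    obtain ⟨a, ha⟩ := h4.index ((pCore 2 P).subgroupOf d.T0)
    exact ⟨a, ha⟩
  obtain ⟨a, ha⟩ := h3
  have hq2 : d.q = 2 ^ n := by rw [← hq, hK]
  obtain ⟨j⟩ := d.Jne
  have h5 : d.q ∣ (pCore 2 P).relIndex d.T0 := by
    have h6 := relIndex_mul_relIndex (pCore 2 P) (d.A j) d.T0 (d.QA j) (by rw [← d.AB j]; exact le_sup_left)
    rw [d.Acard j] at h6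
    exact Dvd.intro _ h6
  have hodd : Odd (d.q ^ 2 - 1) := by
    rw [hq2]
    have h7 : Even ((2 ^ n) ^ 2) := by
      rw [← pow_mul]
      exact (Nat.even_pow.2 ⟨even_two, by omega⟩)
    exact Nat.Even.sub_odd (Nat.one_le_pow _ _ (by positivity)) h7 odd_one
  have h6 : (2 : ℕ) ^ a ∣ d.q := by
    rw [ha] at h2
    have h7 : (2 : ℕ) ^ a ∣ d.q * (d.q ^ 2 - 1) := Dvd.intro _ h2
    exact (Nat.Coprime.dvd_of_dvd_mul_right ((Nat.coprime_two_left.2 hodd).pow_left a) h7)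
  have h7 : (pCore 2 P).relIndex d.T0 = d.q := by
    rw [ha] at h5 ⊢
    exact Nat.dvd_antisymm h6 h5
  refine ⟨h7, ?_⟩
  rw [h7] at h2
  have h8 : d.T0.relIndex (pResidual 2 P ⊔ d.T0) = d.q ^ 2 - 1 :=
    Nat.eq_of_mul_eq_mul_left (by have := d.q_ge; omega) h2
  rw [h8]
  exact hodd

theorem A_eq_T0 (hl : LinOne P d.W d.T0 d.q) (j : d.J) : d.A j = d.T0 := by
  have hle : d.A j ≤ d.T0 := by
    rw [← d.AB j]
    exact le_sup_left
  have h1 := relIndex_mul_relIndex (pCore 2 P) (d.A j) d.T0 (d.QA j) hle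
  rw [d.Acard j, (idx_T0 d hl).1] at h1
  have h2 : (d.A j).relIndex d.T0 = 1 := by
    have := d.q_ge
    nlinarith
  exact le_antisymm hle (relIndex_eq_one.1 h2)

/-- `C_W(O²(P))` is centralised by `T₀` -/
theorem W_cent (hl : LinOne P d.W d.T0 d.q) {w : P} (hw : w ∈ d.W) (hwK : w ∈ centralizer (pResidual 2 P : Set P))
    {a : P} (ha : a ∈ d.T0) : a * w = w * a := by
  obtain ⟨j⟩ := d.Jne
  by_cases haQ : a ∈ pCore 2 P
  · exact (d.W_comm w hw a haQ).symm
  have haA : a ∈ d.A j := by rwa [A_eq_T0 d hl j]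
  obtain ⟨h1, -⟩ := d.Aa j a haA haQ
  have h2 : ⁅pCore 2 P, d.E j⁆ ≤ normalizer ((d.W ⊓ centralizer ({a} : Set P) : Subgroup P) : Set P) := by
    rw [le_normalizer_iff]
    intro y hy x hx
    have h3 := d.W_comm x hx.1 y (d.W_le (dWj_le d j hy))
    rw [← h3, mul_inv_cancel_right]
    exact hx
  obtain ⟨y, hy, c, hc, rfl⟩ := (H399.mul_mem_sup_iff h2).1 (h1 hw)
  have hca : a * c = c * a := mem_cen1.1 hc.2
  have h3 : ⁅y * c, a⁆ = ⁅y, a⁆ := by
    rw [commutatorElement_def, commutatorElement_def, mul_inv_rev]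
    calc y * c * a * (c⁻¹ * y⁻¹) * a⁻¹ = y * (c * a) * c⁻¹ * y⁻¹ * a⁻¹ := by group
      _ = y * a * y⁻¹ * a⁻¹ := by rw [← hca]; group
  have hcKn := cK_normal (P := P)
  have h4 : ⁅y, a⁆ ∈ centralizer (d.E j : Set P) := by
    rw [← h3]
    exact centralizer_le (d.E_le j) (cm_left hcKn hwK a)
  have h5 : y ∈ centralizer (d.T0 : Set P) := by
    by_contra h6
    exact d.wa j y hy h6 a haA haQ h4
  have h6 : a * y = y * a := mem_centralizer_iff.1 h5 a ha
  rw [← mul_assoc, h6, mul_assoc, hca, ← mul_assoc]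

variable {ξ : MulAut ↥(T : Subgroup P)} {t₀ : ↥(T : Subgroup P)}

/-- `Q = W C_Q(O²(P) T₀)` -/
theorem Q_split (hξ : ξ * ξ = MulAut.conj t₀) (sw : Swap (T : Subgroup P) ξ d) (hl : LinOne P d.W d.T0 d.q)
    {v : P} (hv : v ∈ pCore 2 P) :
    ∃ w ∈ d.W, w⁻¹ * v ∈ centralizer ((pResidual 2 P ⊔ d.T0 : Subgroup P) : Set P) := by
  have hVT := Q_le (T := T) hv
  obtain ⟨w, hw, z, hz, h1⟩ := (mkGD d hξ sw).V_dec (v := ⟨v, hVT⟩) hv
  have hzQ : (z : P) ∈ pCore 2 P := hz.1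
  have hzT : ∀ h ∈ d.T0, h * (z : P) = z * h := by
    intro h hh
    have h2 := (mkGD d hξ sw).Z_cent hz (t := ⟨h, d.T0_le hh⟩) hh
    exact congrArg Subtype.val h2
  obtain ⟨w', hw', h2⟩ := avg (W := d.W) Q_normal sw.comm sw.sq (idx_T0 d hl).2 hzQ hzT (by
    intro g hg
    have hWn := d.W_normal
    have h3 : g ∈ pResidual 2 P ⊔ d.T0 := hg
    rw [← SetLike.mem_coe, @normal_mul _ _ _ _ K_normal] at h3
    obtain ⟨k, hk, t, ht, rfl⟩ := h3
    have h4 := hzT t ht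
    have h5 : k * t * (z : P) * (k * t)⁻¹ * (z : P)⁻¹ = k * z * k⁻¹ * (z : P)⁻¹ := by
      rw [mul_assoc k t, h4]
      group
    have h6 : k * z * k⁻¹ * (z : P)⁻¹ = ⁅(z : P), k⁆⁻¹ := by
      rw [commutatorElement_def]
      group
    show k * t * (z : P) * (k * t)⁻¹ * (z : P)⁻¹ ∈ d.W
    rw [h5, h6]
    exact d.W.inv_mem (d.QK (commutator_mem_commutator hzQ hk)))
  refine ⟨w * w'⁻¹, d.W.mul_mem hw (d.W.inv_mem hw'), ?_⟩
  have h3 : ((w : P) * w'⁻¹)⁻¹ * v = w' * z := by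
    have h4 : v = w * z := (congrArg Subtype.val h1).symm
    rw [h4]
    group
  rw [h3]
  exact h2

end grp

end Cfsg.Agent.H647.HM
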