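import Cfsg.Agent.H647.HM.Swap
import Cfsg.Agent.H399.Base

/-!
# S5175, T7b: two directions (helper647)
-/

set_option autoImplicit false
set_option linter.unusedSectionVars false

namespace Cfsg.Agent.H647.HM

open Cfsg Cfsg.Agent.H756.HM Subgroup
open scoped commutatorElement

universe u

theorem rel_pos {Γ : Type*} [Group Γ] [Finite Γ] (X Y : Subgroup Γ) : 0 < X.relIndex Y :=
  Nat.pos_of_ne_zero (index_ne_zero_of_finite (H := X.subgroupOf Y))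

theorem mem_cen1 {Γ : Type*} [Group Γ] {a x : Γ} : x ∈ centralizer ({a} : Set Γ) ↔ a * x = x * a := by
  rw [mem_centralizer_iff]
  exact ⟨fun h => h a rfl, fun h y hy => by rw [Set.mem_singleton_iff.1 hy, h]⟩

/-- the data of `BD` and `Swap` inside `T` -/
structure GD {Γ : Type*} [Group Γ] (ξ : MulAut Γ) where
  V : Subgroup Γ
  W : Subgroup Γ
  T0 : Subgroup Γ
  q : ℕ
  hq : 2 ≤ q
  Vn : V.Normal
  Vc : ∀ a ∈ V, ∀ b ∈ V, a * b = b * a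
  CV : ∀ t, (∀ v ∈ V, v * t = t * v) → t ∈ V
  WV : W ≤ V
  T0eq : V ⊔ V.map ξ.toMonoidHom = T0
  off : (V ⊓ V.map ξ.toMonoidHom).relIndex V ≤ (V ⊓ V.map ξ.toMonoidHom).relIndex W
  J : Type
  A : J → Subgroup Γ
  B : J → Subgroup Γ
  Wj : J → Subgroup Γ
  Cj : J → Subgroup Γ
  VA : ∀ j, V ≤ A j
  VB : ∀ j, V ≤ B j
  AB : ∀ j, A j ⊔ B j = T0
  Acard : ∀ j, V.relIndex (A j) = q
  Bcard : ∀ j, (B j).relIndex T0 = q
  WjW : ∀ j, Wj j ≤ W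
  WB : ∀ j, ∀ w ∈ Wj j, ∀ b ∈ B j, w * b = b * w
  EB : ∀ j, ∀ w ∈ W, ∀ b ∈ B j, ⁅w, b⁆ ∈ Cj j
  Aa : ∀ j, ∀ a ∈ A j, a ∉ V → W ≤ Wj j ⊔ (W ⊓ centralizer ({a} : Set Γ)) ∧
    (W ⊓ centralizer ({a} : Set Γ)).relIndex W = q
  wa : ∀ j, ∀ w ∈ Wj j, ¬ (∀ t ∈ T0, t * w = w * t) → ∀ a ∈ A j, a ∉ V → ⁅w, a⁆ ∉ Cj j
  Wsup : ∀ X : Subgroup Γ, (∀ w ∈ W, (∀ t ∈ T0, t * w = w * t) → w ∈ X) → (∀ j, Wj j ≤ X) → W ≤ X

section gd

variable {Γ : Type*} [Group Γ] [Finite Γ] {ξ : MulAut Γ} {t₀ : Γ} (hξ : ξ * ξ = MulAut.conj t₀) (g : GD ξ)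

/-- `V^ξ` -/
def GD.V' : Subgroup Γ := g.V.map ξ.toMonoidHom

/-- `Z = V ∩ V^ξ` -/
def GD.Z : Subgroup Γ := g.V ⊓ g.V'

theorem GD.V'n : g.V'.Normal := tw_normal g.Vn

theorem GD.mem_V' {y : Γ} : y ∈ g.V' ↔ ξ⁻¹ y ∈ g.V := mem_tw

theorem GD.ap_mem_V' {y : Γ} : ξ y ∈ g.V' ↔ y ∈ g.V := ap_mem_tw

theorem GD.V_le : g.V ≤ g.T0 := by
  rw [← g.T0eq]
  exact le_sup_left

theorem GD.V'_le : g.V' ≤ g.T0 := by
  rw [← g.T0eq]
  exact le_sup_right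

theorem GD.A_le (j : g.J) : g.A j ≤ g.T0 := by
  rw [← g.AB j]
  exact le_sup_left

theorem GD.B_le (j : g.J) : g.B j ≤ g.T0 := by
  rw [← g.AB j]
  exact le_sup_right

theorem GD.T0_dec {t : Γ} (ht : t ∈ g.T0) : ∃ v ∈ g.V, ∃ v' ∈ g.V', v * v' = t := by
  rw [← g.T0eq, ← SetLike.mem_coe, @mul_normal _ _ _ _ (tw_normal g.Vn)] at ht
  obtain ⟨v, hv, v', hv', h⟩ := ht
  exact ⟨v, hv, v', hv', h⟩

theorem GD.V'c {a b : Γ} (ha : a ∈ g.V') (hb : b ∈ g.V') : a * b = b * a := by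
  rw [g.mem_V'] at ha hb
  have h1 := congrArg ξ (g.Vc _ ha _ hb)
  rwa [map_mul, map_mul, MulAut.apply_inv_self, MulAut.apply_inv_self] at h1

theorem GD.CV' {t : Γ} (h : ∀ v ∈ g.V', v * t = t * v) : t ∈ g.V' := by
  rw [g.mem_V']
  apply g.CV
  intro v hv
  have h1 := congrArg (fun x => (ξ⁻¹ : MulAut Γ) x) (h (ξ v) (g.ap_mem_V'.2 hv))
  rwa [map_mul, map_mul, MulAut.inv_apply_self] at h1

/-- elements of `Z` are central in `T₀` -/
theorem GD.Z_cent {z : Γ} (hz : z ∈ g.Z) {t : Γ} (ht : t ∈ g.T0) : t * z = z * t := by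
  obtain ⟨v, hv, v', hv', rfl⟩ := g.T0_dec ht
  rw [mul_assoc, g.V'c hv' hz.2, ← mul_assoc, g.Vc v hv z hz.1, mul_assoc]

theorem GD.mem_Z {v : Γ} (hv : v ∈ g.V) (h : ∀ t ∈ g.T0, t * v = v * t) : v ∈ g.Z :=
  ⟨hv, g.CV' fun t ht => h t (g.V'_le ht)⟩

/-- commutators of `T₀` are in `Z` -/
theorem GD.cm_Z {a b : Γ} (ha : a ∈ g.T0) (hb : b ∈ g.T0) : ⁅a, b⁆ ∈ g.Z := by
  obtain ⟨v, hv, v', hv', rfl⟩ := g.T0_dec ha
  obtain ⟨w, hw, w', hw', rfl⟩ := g.T0_dec hb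
  have hVn := g.Vn
  have hV'n := g.V'n
  constructor
  · show ⁅v * v', w * w'⁆ ∈ g.V
    rw [← QuotientGroup.eq_one_iff, ← QuotientGroup.mk'_apply, map_commutatorElement, map_mul, map_mul]
    rw [show QuotientGroup.mk' g.V v = 1 from (QuotientGroup.eq_one_iff _).2 hv,
      show QuotientGroup.mk' g.V w = 1 from (QuotientGroup.eq_one_iff _).2 hw, one_mul, one_mul,
      ← map_commutatorElement, commutatorElement_eq_one_iff_mul_comm.2 (g.V'c hv' hw'), map_one]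
  · show ⁅v * v', w * w'⁆ ∈ g.V'
    rw [← QuotientGroup.eq_one_iff, ← QuotientGroup.mk'_apply, map_commutatorElement, map_mul, map_mul]
    rw [show QuotientGroup.mk' g.V' v' = 1 from (QuotientGroup.eq_one_iff _).2 hv',
      show QuotientGroup.mk' g.V' w' = 1 from (QuotientGroup.eq_one_iff _).2 hw', mul_one, mul_one,
      ← map_commutatorElement, commutatorElement_eq_one_iff_mul_comm.2 (g.Vc v hv w hw), map_one]

theorem GD.cm_mul_left {a b c : Γ} (ha : a ∈ g.T0) (hb : b ∈ g.T0) (hc : c ∈ g.T0) :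
    ⁅a * b, c⁆ = ⁅a, c⁆ * ⁅b, c⁆ := by
  have h1 := g.Z_cent (g.cm_Z hb hc) ha
  have h2 : ⁅a * b, c⁆ = a * ⁅b, c⁆ * a⁻¹ * ⁅a, c⁆ := by
    simp only [commutatorElement_def]
    group
  rw [h2, h1, mul_inv_cancel_right]
  exact (g.Z_cent (g.cm_Z ha hc) (g.V_le (g.cm_Z hb hc).1))

theorem GD.cm_mul_right {a b c : Γ} (ha : a ∈ g.T0) (hb : b ∈ g.T0) (hc : c ∈ g.T0) :
    ⁅a, b * c⁆ = ⁅a, b⁆ * ⁅a, c⁆ := by
  have h1 := g.Z_cent (g.cm_Z ha hc) hb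
  have h2 : ⁅a, b * c⁆ = ⁅a, b⁆ * (b * ⁅a, c⁆ * b⁻¹) := by
    simp only [commutatorElement_def]
    group
  rw [h2, h1, mul_inv_cancel_right]

/-- `V = W Z` -/
theorem GD.V_dec {v : Γ} (hv : v ∈ g.V) : ∃ w ∈ g.W, ∃ z ∈ g.Z, w * z = v := by
  have hZn : g.Z.Normal := @normal_inf_normal _ _ _ _ g.Vn g.V'n
  have h1 : g.W ⊔ g.Z ≤ g.V := sup_le g.WV inf_le_left
  have h2 := relIndex_mul_relIndex g.Z (g.W ⊔ g.Z) g.V le_sup_right h1
  rw [relIndex_sup_right] at h2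
  have h3 : g.Z.relIndex g.V ≤ g.Z.relIndex g.W := g.off
  have h4 : 0 < g.Z.relIndex g.W := rel_pos _ _
  have h5 : (g.W ⊔ g.Z).relIndex g.V = 1 := by
    have h6 : 0 < (g.W ⊔ g.Z).relIndex g.V := rel_pos _ _
    rw [← h2] at h3
    nlinarith
  have h6 := relIndex_eq_one.1 h5 hv
  rw [← SetLike.mem_coe, mul_normal] at h6
  obtain ⟨w, hw, z, hz, h⟩ := h6
  exact ⟨w, hw, z, hz, h⟩

/-- subgroups between `V` and `T₀` are normalised by `T₀` -/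
theorem GD.norm {A : Subgroup Γ} (h1 : g.V ≤ A) : g.T0 ≤ normalizer (A : Set Γ) ∨ ¬ A ≤ g.T0 := by
  by_cases h2 : A ≤ g.T0
  · left
    rw [le_normalizer_iff]
    intro t ht a ha
    have h3 := A.mul_mem (h1 (g.cm_Z ht (h2 ha)).1) ha
    have h4 : ⁅t, a⁆ * a = t * a * t⁻¹ := by
      rw [commutatorElement_def]
      group
    rwa [h4] at h3
  · exact Or.inr h2

theorem GD.AB_dec (j : g.J) {t : Γ} (ht : t ∈ g.T0) : ∃ a ∈ g.A j, ∃ b ∈ g.B j, a * b = t := by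
  rw [← g.AB j] at ht
  refine (H399.mul_mem_sup_iff ?_).1 ht
  rcases g.norm (g.VB j) with h | h
  · exact (g.A_le j).trans h
  · exact absurd (g.B_le j) h

theorem GD.AB_V (j : g.J) {t : Γ} (ha : t ∈ g.A j) (hb : t ∈ g.B j) : t ∈ g.V := by
  -- `|A : V| = q = |T₀ : B| = |A : A ∩ B|`
  have h1 : (g.B j).relIndex (g.A j ⊔ g.B j) = (g.B j).relIndex (g.A j) := by
    refine H399.relIndex_sup_of_left ?_
    rcases g.norm (g.VB j) with h | h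
    · exact (g.A_le j).trans h
    · exact absurd (g.B_le j) h
  rw [g.AB j, g.Bcard j, ← inf_relIndex_right] at h1
  have h2 := relIndex_mul_relIndex g.V (g.B j ⊓ g.A j) (g.A j) (le_inf (g.VB j) (g.VA j)) inf_le_right
  rw [← h1, g.Acard j] at h2
  have h3 : g.V.relIndex (g.B j ⊓ g.A j) = 1 := by
    have h4 := g.hq
    have h5 : 0 < g.V.relIndex (g.B j ⊓ g.A j) := rel_pos _ _
    nlinarith
  exact relIndex_eq_one.1 h3 ⟨hb, ha⟩

theorem GD.W_le : g.W ≤ g.T0 := g.WV.trans g.V_le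

theorem GD.Wj_le (j : g.J) : g.Wj j ≤ g.V := (g.WjW j).trans g.WV

/-- `v ∈ V` commutes with `a` iff its `W`-part does -/
theorem GD.idx_V {a : Γ} (j : g.J) (ha : a ∈ g.A j) (haV : a ∉ g.V) :
    (g.V ⊓ centralizer ({a} : Set Γ)).relIndex g.V = g.q := by
  have h1 : g.W ⊔ (g.V ⊓ centralizer ({a} : Set Γ)) = g.V := by
    apply le_antisymm (sup_le g.WV inf_le_left)
    intro v hv
    obtain ⟨w, hw, z, hz, rfl⟩ := g.V_dec hv
    refine mul_mem_sup hw ⟨hz.1, ?_⟩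
    exact mem_cen1.2 (g.Z_cent hz (g.A_le j ha))
  have h2 : g.W ≤ normalizer ((g.V ⊓ centralizer ({a} : Set Γ) : Subgroup Γ) : Set Γ) := by
    rw [le_normalizer_iff]
    intro w hw x hx
    rw [g.Vc w (g.WV hw) x hx.1, mul_inv_cancel_right]
    exact hx
  have h3 := H399.relIndex_sup_of_left h2
  rw [h1] at h3
  rw [h3, ← (g.Aa j a ha haV).2, ← inf_relIndex_right, ← inf_relIndex_right (g.W ⊓ centralizer ({a} : Set Γ))]
  congr 1
  ext x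
  simp only [mem_inf]
  constructor
  · rintro ⟨⟨-, h4⟩, h5⟩
    exact ⟨⟨h5, h4⟩, h5⟩
  · rintro ⟨⟨-, h4⟩, h5⟩
    exact ⟨⟨g.WV h5, h4⟩, h5⟩

/-- an element of `W_j` commuting with some `a ∈ A_j \ V` is in `Z` -/
theorem GD.Wj_Z {j : g.J} {w a : Γ} (hw : w ∈ g.Wj j) (ha : a ∈ g.A j) (haV : a ∉ g.V) (h : ⁅w, a⁆ ∈ g.Cj j) :
    w ∈ g.Z := by
  by_contra h1
  refine g.wa j w hw ?_ a ha haV h
  intro h2
  exact h1 (g.mem_Z (g.Wj_le j hw) h2)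

/-- the key: an element of `T₀` with small `|V : C_V(a)|` is in `A_j` or in `B_j` -/
theorem GD.A_or_B (j : g.J) {a : Γ} (ha : a ∈ g.T0)
    (hq : (g.V ⊓ centralizer ({a} : Set Γ)).relIndex g.V ≤ g.q) : a ∈ g.A j ∨ a ∈ g.B j := by
  obtain ⟨a₁, ha₁, b, hb, rfl⟩ := g.AB_dec j ha
  by_cases h1 : a₁ ∈ g.V
  · right
    exact (g.B j).mul_mem (g.VB j h1) hb
  by_cases h2 : b ∈ g.V
  · left
    exact (g.A j).mul_mem ha₁ (g.VA j h2)
  exfalso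
  have ha₁T := g.A_le j ha₁
  have hbT := g.B_le j hb
  obtain ⟨h3, -⟩ := g.Aa j a₁ ha₁ h1
  have hW : ∀ w ∈ g.W, ∃ x ∈ g.Wj j, ∃ c ∈ g.W, a₁ * c = c * a₁ ∧ x * c = w := by
    intro w hw
    have h4 := h3 hw
    have h5 : g.Wj j ≤ normalizer ((g.W ⊓ centralizer ({a₁} : Set Γ) : Subgroup Γ) : Set Γ) := by
      rw [le_normalizer_iff]
      intro w hw x hx
      rw [g.Vc w (g.Wj_le j hw) x (g.WV hx.1), mul_inv_cancel_right]
      exact hx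
    obtain ⟨x, hx, c, hc, h6⟩ := (H399.mul_mem_sup_iff h5).1 h4
    exact ⟨x, hx, c, hc.1, mem_cen1.1 hc.2, h6⟩
  -- `C_V(a) ≤ C_V(a₁)`
  have h4 : g.V ⊓ centralizer ({a₁ * b} : Set Γ) ≤ g.V ⊓ centralizer ({a₁} : Set Γ) := by
    rintro v ⟨hv, hv2⟩
    refine ⟨hv, mem_cen1.2 ?_⟩
    obtain ⟨w, hw, z, hz, rfl⟩ := g.V_dec hv
    have hwT := g.W_le hw
    have h5 : ⁅w * z, a₁ * b⁆ = 1 := commutatorElement_eq_one_iff_mul_comm.2 (mem_cen1.1 hv2).symm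
    have hzT : z ∈ g.T0 := g.V_le hz.1
    have hz1 : ∀ t ∈ g.T0, ⁅z, t⁆ = 1 := fun t ht => commutatorElement_eq_one_iff_mul_comm.2 (g.Z_cent hz ht).symm
    rw [g.cm_mul_left hwT hzT ha, hz1 _ ha, mul_one, g.cm_mul_right hwT ha₁T hbT] at h5
    obtain ⟨x, hx, c, hc, h6, rfl⟩ := hW w hw
    have hxT : x ∈ g.T0 := g.V_le (g.Wj_le j hx)
    have hcT : c ∈ g.T0 := g.W_le hc
    have hc1 : ⁅c, a₁⁆ = 1 := commutatorElement_eq_one_iff_mul_comm.2 h6.symm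
    have h7 : ⁅x, a₁⁆ ∈ g.Cj j := by
      have h8 : ⁅x * c, a₁⁆ = ⁅x, a₁⁆ := by rw [g.cm_mul_left hxT hcT ha₁T, hc1, mul_one]
      rw [← h8, eq_inv_of_mul_eq_one_left h5]
      exact (g.Cj j).inv_mem (g.EB j _ hw b hb)
    have h8 := g.Wj_Z hx ha₁ h1 h7
    rw [mul_assoc, ← mul_assoc a₁, g.Z_cent h8 ha₁T, mul_assoc, ← mul_assoc a₁, h6, mul_assoc,
      g.Z_cent hz ha₁T]
    group
  have h5 := relIndex_mul_relIndex _ _ _ h4 (inf_le_left : g.V ⊓ centralizer ({a₁} : Set Γ) ≤ g.V)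
  rw [g.idx_V j ha₁ h1] at h5
  have h6 : (g.V ⊓ centralizer ({a₁ * b} : Set Γ)).relIndex (g.V ⊓ centralizer ({a₁} : Set Γ)) = 1 := by
    have h7 := g.hq
    have h8 : 0 < (g.V ⊓ centralizer ({a₁ * b} : Set Γ)).relIndex (g.V ⊓ centralizer ({a₁} : Set Γ)) := rel_pos _ _
    rw [← h5] at hq
    nlinarith
  have h7 := relIndex_eq_one.1 h6
  apply h2
  apply g.CV
  intro v hv
  obtain ⟨w, hw, z, hz, rfl⟩ := g.V_dec hv
  obtain ⟨x, hx, c, hc, h8, rfl⟩ := hW w hw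
  have h9 := mem_cen1.1 (h7 ⟨g.WV hc, mem_cen1.2 h8⟩).2
  have h10 : b * c = c * b := by
    rw [mul_assoc, ← mul_assoc c, ← h8, mul_assoc] at h9
    exact mul_left_cancel h9
  have h11 := g.WB j x hx b hb
  have h12 := g.Z_cent hz hbT
  calc x * c * z * b = x * c * (b * z) := by rw [h12]; group
    _ = x * (b * c) * z := by rw [h10]; group
    _ = b * x * c * z := by rw [← h11]; group
    _ = b * (x * c * z) := by group

theorem GD.cent_Wj {k : g.J} {v : Γ} (hv : v ∈ g.Wj k) (hvZ : v ∉ g.Z) {t : Γ} (ht : t ∈ g.T0) :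
    v * t = t * v ↔ t ∈ g.B k := by
  constructor
  · intro h
    obtain ⟨a, ha, b, hb, rfl⟩ := g.AB_dec k ht
    have h1 := g.WB k v hv b hb
    have h2 : v * a = a * v := by
      rw [← mul_assoc, mul_assoc a, ← h1, ← mul_assoc] at h
      exact mul_right_cancel h
    refine (g.B k).mul_mem ?_ hb
    apply g.VB k
    by_contra haV
    refine hvZ (g.Wj_Z hv ha haV ?_)
    rw [commutatorElement_eq_one_iff_mul_comm.2 h2]
    exact (g.Cj k).one_mem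
  · intro h
    exact g.WB k v hv t h

theorem GD.idx_Wj {k : g.J} {v : Γ} (hv : v ∈ g.Wj k) (hvZ : v ∉ g.Z) (η : MulAut Γ)
    (hη : g.V'.map η.toMonoidHom = g.V) :
    (g.V ⊓ centralizer ({η v} : Set Γ)).relIndex g.V = g.q := by
  have h1 : (g.V' ⊓ centralizer ({v} : Set Γ)).map η.toMonoidHom = g.V ⊓ centralizer ({η v} : Set Γ) := by
    rw [← hη]
    ext x
    rw [mem_tw, mem_inf, mem_inf, mem_tw, mem_cen1, mem_cen1]
    refine and_congr_right fun _ => ?_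
    constructor
    · intro h
      have h1 := congrArg η h
      rwa [map_mul, map_mul, MulAut.apply_inv_self] at h1
    · intro h
      have h1 := congrArg (fun x => (η⁻¹ : MulAut Γ) x) h
      rwa [map_mul, map_mul, MulAut.inv_apply_self] at h1
  rw [← h1]
  conv_lhs => rw [← hη]
  rw [relIndex_map_map_of_injective _ _ η.injective]
  have h2 : g.V' ≤ normalizer (g.B k : Set Γ) := by
    rcases g.norm (g.VB k) with h | h
    · exact g.V'_le.trans h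
    · exact absurd (g.B_le k) h
  have h3 := H399.relIndex_sup_of_left h2
  have h4 : g.V' ⊔ g.B k = g.T0 := by
    apply le_antisymm (sup_le g.V'_le (g.B_le k))
    rw [← g.T0eq]
    exact sup_le ((g.VB k).trans le_sup_right) le_sup_left
  rw [h4, g.Bcard k] at h3
  rw [h3, ← inf_relIndex_right (g.B k)]
  congr 1
  ext x
  rw [mem_inf, mem_inf, and_comm]
  refine and_congr_left fun hx => ?_
  rw [mem_cen1]
  exact g.cent_Wj hv hvZ (g.V'_le hx)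

include hξ

theorem GD.tw_V' : g.V'.map ξ.toMonoidHom = g.V := tw_tw hξ g.Vn

theorem GD.inv_V' : g.V'.map (ξ⁻¹ : MulAut Γ).toMonoidHom = g.V := by
  ext x
  rw [mem_tw, inv_inv]
  exact g.ap_mem_V'

theorem GD.ap_V {y : Γ} : ξ y ∈ g.V ↔ y ∈ g.V' := by
  rw [← g.tw_V' hξ, ap_mem_tw]

theorem GD.ap_Z {y : Γ} : ξ y ∈ g.Z ↔ y ∈ g.Z := by
  show ξ y ∈ g.V ∧ ξ y ∈ g.V' ↔ y ∈ g.V ∧ y ∈ g.V'
  rw [g.ap_V hξ, g.ap_mem_V', and_comm]

theorem GD.inv_Z {y : Γ} : ξ⁻¹ y ∈ g.Z ↔ y ∈ g.Z := by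
  rw [← g.ap_Z hξ, MulAut.apply_inv_self]

theorem GD.ap_T0 {y : Γ} (hy : y ∈ g.T0) : ξ y ∈ g.T0 := by
  obtain ⟨v, hv, v', hv', rfl⟩ := g.T0_dec hy
  rw [map_mul]
  exact g.T0.mul_mem (g.V'_le (g.ap_mem_V'.2 hv)) (g.V_le ((g.ap_V hξ).2 hv'))

theorem GD.inv_V {y : Γ} : ξ⁻¹ y ∈ g.V' ↔ y ∈ g.V := by
  rw [← g.ap_V hξ, MulAut.apply_inv_self]

theorem GD.inv_T0 {y : Γ} (hy : y ∈ g.T0) : ξ⁻¹ y ∈ g.T0 := by
  obtain ⟨v, hv, v', hv', rfl⟩ := g.T0_dec hy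
  rw [map_mul]
  exact g.T0.mul_mem (g.V'_le ((g.inv_V hξ).2 hv)) (g.V_le (g.mem_V'.1 hv'))

/-- some `a ∈ A_j \ V` and `w ∈ W_j` not commuting with it -/
theorem GD.exists_nc (j : g.J) : ∃ a ∈ g.A j, a ∉ g.V ∧ ∃ w ∈ g.Wj j, w ∉ g.Z ∧ a * w ≠ w * a := by
  have h1 : ∃ a ∈ g.A j, a ∉ g.V := by
    by_contra h
    push Not at h
    have h2 : g.V.relIndex (g.A j) = 1 := relIndex_eq_one.2 h
    rw [g.Acard j] at h2
    have := g.hq
    omega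
  obtain ⟨a, ha, haV⟩ := h1
  refine ⟨a, ha, haV, ?_⟩
  obtain ⟨h2, h3⟩ := g.Aa j a ha haV
  by_contra h
  push Not at h
  have h4 : g.Wj j ≤ g.W ⊓ centralizer ({a} : Set Γ) := by
    intro w hw
    refine ⟨g.WjW j hw, mem_cen1.2 ?_⟩
    by_cases hwZ : w ∈ g.Z
    · exact g.Z_cent hwZ (g.A_le j ha)
    · exact h w hw hwZ
  have h5 : (g.W ⊓ centralizer ({a} : Set Γ)).relIndex g.W = 1 := relIndex_eq_one.2 (h2.trans (sup_le h4 le_rfl))
  rw [h3] at h5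
  have := g.hq
  omega

/-- Claim A -/
theorem GD.exists_pair (j : g.J) : ∃ k, ∃ w₁ ∈ g.Wj j, ∃ w₂ ∈ g.Wj k, w₁ * ξ w₂ ≠ ξ w₂ * w₁ := by
  by_contra h
  push Not at h
  obtain ⟨a, ha, haV, w, hw, hwZ, -⟩ := g.exists_nc hξ j
  apply hwZ
  refine ⟨g.Wj_le j hw, g.CV' ?_⟩
  have h1 : g.W ≤ (centralizer ({w} : Set Γ)).comap ξ.toMonoidHom := by
    apply g.Wsup
    · intro x hx hx2
      have h2 := (g.ap_Z hξ).2 (g.mem_Z (g.WV hx) hx2)
      exact mem_cen1.2 (g.Z_cent h2 (g.V_le (g.Wj_le j hw)))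
    · intro k x hx
      exact mem_cen1.2 (h k w hw x hx)
  intro v hv
  have h2 := g.mem_V'.1 hv
  obtain ⟨x, hx, z, hz, h3⟩ := g.V_dec h2
  have h4 : ξ x * ξ z = v := by rw [← map_mul, h3, MulAut.apply_inv_self]
  have h5 : w * ξ x = ξ x * w := mem_cen1.1 (h1 hx)
  have h6 := g.Z_cent ((g.ap_Z hξ).2 hz) (g.V_le (g.Wj_le j hw))
  rw [← h4, mul_assoc, ← h6, ← mul_assoc, ← h5, mul_assoc]

/-- Claim C, for `ξ` and `ξ⁻¹` -/
theorem GD.sub_A {j k : g.J} (η : MulAut Γ) (hη : g.V'.map η.toMonoidHom = g.V) (hT : ∀ y ∈ g.T0, η y ∈ g.T0)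
    (hZ : ∀ y ∈ g.Z, η y ∈ g.Z) {w₁ w₂ : Γ} (h1 : w₁ ∈ g.Wj j) (h2 : w₂ ∈ g.Wj k) (h3 : w₁ * η w₂ ≠ η w₂ * w₁) :
    ∀ w ∈ g.Wj k, η w ∈ g.A j := by
  have key : ∀ w ∈ g.Wj k, η w ∈ g.A j ∨ η w ∈ g.B j := by
    intro w hw
    by_cases hwZ : w ∈ g.Z
    · exact Or.inl (g.VA j (hZ w hwZ).1)
    · exact g.A_or_B j (hT _ (g.V_le (g.Wj_le k hw))) (g.idx_Wj hw hwZ η hη).le
  have h4 : η w₂ ∉ g.B j := fun h => h3 (g.WB j w₁ h1 _ h)
  have h5 := (key w₂ h2).resolve_right h4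
  intro w hw
  rcases key w hw with h6 | h6
  · exact h6
  · rcases key (w * w₂) ((g.Wj k).mul_mem hw h2) with h7 | h7
    · rw [map_mul] at h7
      have h8 := (g.A j).mul_mem h7 ((g.A j).inv_mem h5)
      rwa [mul_inv_cancel_right] at h8
    · exfalso
      rw [map_mul] at h7
      have h8 := (g.B j).mul_mem ((g.B j).inv_mem h6) h7
      rw [inv_mul_cancel_left] at h8
      exact h4 h8

omit hξ in
/-- `|W_j : W_j ∩ Z| = q` -/
theorem GD.Wj_idx (j : g.J) {a : Γ} (ha : a ∈ g.A j) (haV : a ∉ g.V) : g.Z.relIndex (g.Wj j) = g.q := by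
  obtain ⟨h3, h4⟩ := g.Aa j a ha haV
  have h5 : g.Wj j ≤ normalizer ((g.W ⊓ centralizer ({a} : Set Γ) : Subgroup Γ) : Set Γ) := by
    rw [le_normalizer_iff]
    intro w hw x hx
    rw [g.Vc w (g.Wj_le j hw) x (g.WV hx.1), mul_inv_cancel_right]
    exact hx
  have h6 := H399.relIndex_sup_of_left h5
  have h7 : g.Wj j ⊔ (g.W ⊓ centralizer ({a} : Set Γ)) = g.W := le_antisymm (sup_le (g.WjW j) inf_le_left) h3
  rw [h7, h4] at h6
  rw [h6, ← inf_relIndex_right, ← inf_relIndex_right (g.W ⊓ centralizer ({a} : Set Γ))]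
  congr 1
  ext x
  rw [mem_inf, mem_inf]
  refine and_congr_left fun hx => ?_
  constructor
  · intro h
    exact ⟨g.WjW j hx, mem_cen1.2 (g.Z_cent h (g.A_le j ha))⟩
  · rintro ⟨-, h⟩
    refine g.Wj_Z hx ha haV ?_
    rw [commutatorElement_eq_one_iff_mul_comm.2 (mem_cen1.1 h).symm]
    exact (g.Cj j).one_mem

/-- `A_k = V W_j^{ξ⁻¹}` -/
theorem GD.A_eq {j k : g.J} (hA : ∀ w ∈ g.Wj j, ξ⁻¹ w ∈ g.A k) {a : Γ} (ha : a ∈ g.A k) :
    ∃ v ∈ g.V, ∃ w ∈ g.Wj j, v * ξ⁻¹ w = a := by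
  set N := (g.Wj j).map (ξ⁻¹ : MulAut Γ).toMonoidHom with hN
  have hNA : N ≤ g.A k := by
    rintro _ ⟨w, hw, rfl⟩
    exact hA w hw
  have h1 : g.V.relIndex (N ⊔ g.V) = g.V.relIndex N := by
    have := g.Vn
    exact relIndex_sup_right N g.V
  obtain ⟨a₀, ha₀, ha₀V, -⟩ := g.exists_nc hξ j
  have h2 : g.V.relIndex N = g.q := by
    rw [← g.Wj_idx j ha₀ ha₀V, hN]
    have h3 : g.V.relIndex N = (g.V'.map (ξ⁻¹ : MulAut Γ).toMonoidHom).relIndex N := by rw [g.inv_V' hξ]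
    rw [h3, hN, relIndex_map_map_of_injective _ _ (ξ⁻¹ : MulAut Γ).injective, ← inf_relIndex_right g.V',
      ← inf_relIndex_right g.Z]
    congr 1
    ext x
    rw [mem_inf, mem_inf]
    refine and_congr_left fun hx => ?_
    exact ⟨fun h => ⟨g.Wj_le j hx, h⟩, fun h => h.2⟩
  have h3 := relIndex_mul_relIndex g.V (N ⊔ g.V) (g.A k) le_sup_right (sup_le hNA (g.VA k))
  rw [h1, h2, g.Acard k] at h3
  have h4 : (N ⊔ g.V).relIndex (g.A k) = 1 := by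
    have h5 := g.hq
    have h6 : 0 < (N ⊔ g.V).relIndex (g.A k) := rel_pos _ _
    nlinarith
  have h5 := relIndex_eq_one.1 h4 ha
  rw [sup_comm, ← SetLike.mem_coe, @normal_mul _ _ _ _ g.Vn] at h5
  obtain ⟨v, hv, _, ⟨w, hw, rfl⟩, h6⟩ := h5
  exact ⟨v, hv, w, hw, h6⟩

theorem GD.main (j : g.J) (hj : g.B j ≠ g.V) : ∃ k, ∃ u, u ≠ 1 ∧ u ∈ g.V ∧ u ∈ g.V' ∧ u ∈ g.Cj j ∧ ξ⁻¹ u ∈ g.Cj k ∧
    ∃ w₁ ∈ g.Wj j, ∃ w₂ ∈ g.Wj k, ⁅w₁, ξ w₂⁆ ∉ g.Cj j ∧ ξ⁻¹ ⁅w₁, ξ w₂⁆ ∉ g.Cj k := by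
  obtain ⟨k, w₁, h1, w₂, h2, h3⟩ := g.exists_pair hξ j
  have hA1 := g.sub_A hξ ξ (g.tw_V' hξ) (fun y hy => g.ap_T0 hξ hy) (fun y hy => (g.ap_Z hξ).2 hy) h1 h2 h3
  have h3' : w₂ * ξ⁻¹ w₁ ≠ ξ⁻¹ w₁ * w₂ := by
    intro h
    apply h3
    have h4 := congrArg ξ h
    rw [map_mul, map_mul, MulAut.apply_inv_self] at h4
    exact h4.symm
  have hA2 := g.sub_A hξ ξ⁻¹ (g.inv_V' hξ) (fun y hy => g.inv_T0 hξ hy) (fun y hy => (g.inv_Z hξ).2 hy) h2 h1 h3'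
  -- the element `b`
  have hb : ∃ b ∈ g.B j, b ∈ g.V' ∧ b ∉ g.V := by
    by_contra h
    push Not at h
    apply hj
    refine le_antisymm ?_ (g.VB j)
    intro b hb
    obtain ⟨v, hv, v', hv', rfl⟩ := g.T0_dec (g.B_le j hb)
    have h4 := (g.B j).mul_mem ((g.B j).inv_mem (g.VB j hv)) hb
    rw [inv_mul_cancel_left] at h4
    exact g.V.mul_mem hv (h v' h4 hv')
  obtain ⟨b, hb, hbV', hbV⟩ := hb
  have hv : ∃ v ∈ g.V, ⁅v, b⁆ ≠ 1 := by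
    by_contra h
    push Not at h
    exact hbV (g.CV b fun v hv => commutatorElement_eq_one_iff_mul_comm.1 (h v hv))
  obtain ⟨v, hv, hvb⟩ := hv
  have hbT := g.B_le j hb
  have hz1 : ∀ z ∈ g.Z, ∀ t ∈ g.T0, ⁅z, t⁆ = 1 :=
    fun z hz t ht => commutatorElement_eq_one_iff_mul_comm.2 (g.Z_cent hz ht).symm
  have hz2 : ∀ z ∈ g.Z, ∀ t ∈ g.T0, ⁅t, z⁆ = 1 :=
    fun z hz t ht => commutatorElement_eq_one_iff_mul_comm.2 (g.Z_cent hz ht)
  have huZ := g.cm_Z (g.V_le hv) hbT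
  refine ⟨k, ⁅v, b⁆, hvb, huZ.1, huZ.2, ?_, ?_, w₁, h1, w₂, h2, ?_, ?_⟩
  · obtain ⟨w, hw, z, hz, rfl⟩ := g.V_dec hv
    rw [g.cm_mul_left (g.W_le hw) (g.V_le hz.1) hbT, hz1 z hz b hbT, mul_one]
    exact g.EB j w hw b hb
  · rw [map_commutatorElement]
    have h4 := g.inv_T0 hξ (g.V_le hv)
    obtain ⟨a', ha', b', hb', h5⟩ := g.AB_dec k h4
    have hc : ξ⁻¹ b ∈ g.V := g.mem_V'.1 hbV'
    have ha'T := g.A_le k ha'
    have hb'T := g.B_le k hb'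
    rw [← h5, g.cm_mul_left ha'T hb'T (g.V_le hc)]
    have h6 : ⁅a', ξ⁻¹ b⁆ = 1 := by
      obtain ⟨y, hy, w, hw, rfl⟩ := g.A_eq hξ hA2 ha'
      rw [g.cm_mul_left (g.V_le hy) (g.inv_T0 hξ (g.V_le (g.Wj_le j hw))) (g.V_le hc),
        commutatorElement_eq_one_iff_mul_comm.2 (g.Vc y hy _ hc), one_mul, ← map_commutatorElement,
        commutatorElement_eq_one_iff_mul_comm.2 (g.WB j w hw b hb), map_one]
    rw [h6, one_mul]
    obtain ⟨w, hw, z, hz, h7⟩ := g.V_dec hc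
    rw [← h7, g.cm_mul_right hb'T (g.W_le hw) (g.V_le hz.1), hz2 z hz b' hb'T, mul_one, ← commutatorElement_inv]
    exact (g.Cj k).inv_mem (g.EB k w hw b' hb')
  · refine g.wa j w₁ h1 ?_ _ (hA1 w₂ h2) ?_
    · intro h
      exact h3 (h _ (g.ap_T0 hξ (g.V_le (g.Wj_le k h2)))).symm
    · intro h
      exact h3 (g.Vc w₁ (g.Wj_le j h1) _ h)
  · rw [map_commutatorElement, MulAut.inv_apply_self, ← commutatorElement_inv]
    intro h
    refine g.wa k w₂ h2 ?_ _ (hA2 w₁ h1) ?_ ?_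
    · intro h4
      exact h3' (h4 _ (g.inv_T0 hξ (g.V_le (g.Wj_le j h1)))).symm
    · intro h4
      exact h3' (g.Vc w₂ (g.Wj_le k h2) _ h4)
    · have := (g.Cj k).inv_mem h
      rwa [inv_inv] at this

end gd

/-! ### from `BD` and `Swap` -/

section mk

variable {P : Type u} [Group P] [Finite P] {T : Sylow 2 P} (d : BD (T : Subgroup P))
  {ξ : MulAut ↥(T : Subgroup P)} {t₀ : ↥(T : Subgroup P)}

theorem cen1_sub (a : ↥(T : Subgroup P)) (X : Subgroup P) :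
    (X ⊓ centralizer ({(a : P)} : Set P)).subgroupOf (T : Subgroup P) =
      X.subgroupOf (T : Subgroup P) ⊓ centralizer ({a} : Set ↥(T : Subgroup P)) := by
  ext x
  constructor
  · rintro ⟨h1, h2⟩
    exact ⟨h1, mem_cen1.2 (Subtype.ext (mem_cen1.1 h2))⟩
  · rintro ⟨h1, h2⟩
    exact ⟨h1, mem_cen1.2 (congrArg Subtype.val (mem_cen1.1 h2))⟩

theorem dA_le (j : d.J) : d.A j ≤ (T : Subgroup P) := by
  refine le_trans ?_ d.T0_le
  rw [← d.AB j]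
  exact le_sup_left

theorem dB_le (j : d.J) : d.B j ≤ (T : Subgroup P) := by
  refine le_trans ?_ d.T0_le
  rw [← d.AB j]
  exact le_sup_right

theorem dWj_le (j : d.J) : ⁅pCore 2 P, d.E j⁆ ≤ d.W := (commutator_mono le_rfl (d.E_le j)).trans d.QK

theorem off_sub (hξ : ξ * ξ = MulAut.conj t₀) (sw : Swap (T : Subgroup P) ξ d) :
    (Qs T ⊓ (Qs T).map ξ.toMonoidHom).relIndex (Qs T) ≤ (Qs T ⊓ (Qs T).map ξ.toMonoidHom).relIndex (Ws d) := by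
  have hVn := Qs_normal (T := T)
  set V' := (Qs T).map ξ.toMonoidHom with hV'
  have hVc : ∀ a ∈ Qs T, ∀ b ∈ Qs T, a * b = b * a := fun a ha b hb => Subtype.ext (sw.comm a ha b hb)
  have h1 : ∀ a ∈ V'.map (T : Subgroup P).subtype, ∀ b ∈ V'.map (T : Subgroup P).subtype, a * b = b * a := by
    rintro _ ⟨_, ⟨a, ha, rfl⟩, rfl⟩ _ ⟨_, ⟨b, hb, rfl⟩, rfl⟩
    have h3 : ξ a * ξ b = ξ b * ξ a := by rw [← map_mul, hVc a ha b hb, map_mul]
    exact congrArg Subtype.val h3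
  have h2 : ∀ a ∈ V'.map (T : Subgroup P).subtype, a ^ 2 = 1 := by
    rintro _ ⟨_, ⟨a, ha, rfl⟩, rfl⟩
    have h3 : a ^ 2 = 1 := Subtype.ext (sw.sq a ha)
    have h4 : (ξ a) ^ 2 = 1 := by rw [← map_pow, h3, map_one]
    exact congrArg Subtype.val h4
  have h3 := d.off _ (map_subtype_le V') (le_norm_map (tw_normal hVn)) h1 h2
  have h4 : pCore 2 P ⊓ V'.map (T : Subgroup P).subtype = (Qs T ⊓ V').map (T : Subgroup P).subtype := by
    rw [Subgroup.map_inf _ _ _ (T : Subgroup P).subtype_injective, map_sub Q_le]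
  have h5 : d.W ⊓ centralizer (V'.map (T : Subgroup P).subtype : Set P) =
      (Ws d ⊓ centralizer (V' : Set ↥(T : Subgroup P))).map (T : Subgroup P).subtype := by
    rw [cent_map, map_sub (W_le_T d)]
  have h6 : Ws d ⊓ centralizer (V' : Set ↥(T : Subgroup P)) = (Qs T ⊓ V') ⊓ Ws d := by
    ext w
    rw [mem_inf, mem_inf (p := Qs T ⊓ V'), and_comm]
    refine and_congr_left fun hw => ?_
    constructor
    · intro h
      refine ⟨Ws_le d hw, mem_tw.2 ?_⟩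
      have h7 : ∀ v ∈ Qs T, v * ξ⁻¹ w = ξ⁻¹ w * v := by
        intro v hv
        have h8 := congrArg (fun x => (ξ⁻¹ : MulAut ↥(T : Subgroup P)) x)
          (mem_centralizer_iff.1 h (ξ v) (mem_map_of_mem _ hv))
        rwa [map_mul, map_mul, MulAut.inv_apply_self] at h8
      rw [mem_subgroupOf, ← sw.CT]
      exact ⟨(ξ⁻¹ w).2, mem_centralizer_iff.2 fun v hv => congrArg Subtype.val (h7 ⟨v, Q_le hv⟩ hv)⟩
    · rintro ⟨-, h⟩
      refine mem_centralizer_iff.2 ?_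
      rintro _ ⟨a, ha, rfl⟩
      obtain ⟨b, hb, rfl⟩ := h
      have h3 : ξ a * ξ b = ξ b * ξ a := by rw [← map_mul, hVc a ha b hb, map_mul]
      exact h3
  rw [h4, h5, relIndex_sub, h6] at h3
  conv_rhs at h3 => rw [← map_sub (W_le_T d), relIndex_sub]
  rw [inf_relIndex_right (Qs T ⊓ V') (Ws d)] at h3
  refine le_trans (le_of_eq ?_) h3
  have h7 : (Qs T ⊓ V').map ξ.toMonoidHom = Qs T ⊓ V' := by
    rw [Subgroup.map_inf _ _ _ ξ.injective, tw_tw hξ hVn, inf_comm]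
  have h8 : V'.map ξ.toMonoidHom = Qs T := tw_tw hξ hVn
  have h9 : ((Qs T ⊓ V').map ξ.toMonoidHom).relIndex (V'.map ξ.toMonoidHom) = (Qs T ⊓ V').relIndex V' :=
    relIndex_map_map_of_injective _ _ ξ.injective
  rw [← h9, h7, h8]

/-- the data inside `T` -/
def mkGD (hξ : ξ * ξ = MulAut.conj t₀) (sw : Swap (T : Subgroup P) ξ d) : GD ξ where
  V := Qs T
  W := Ws d
  T0 := T0s d
  q := d.q
  hq := d.q_ge
  Vn := Qs_normal
  Vc := fun a ha b hb => Subtype.ext (sw.comm a ha b hb)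
  CV := fun t ht => by
    rw [mem_subgroupOf, ← sw.CT]
    exact ⟨t.2, mem_centralizer_iff.2 fun v hv => congrArg Subtype.val (ht ⟨v, Q_le hv⟩ hv)⟩
  WV := Ws_le d
  T0eq := sw.T0
  off := off_sub d hξ sw
  J := d.J
  A := fun j => (d.A j).subgroupOf (T : Subgroup P)
  B := fun j => (d.B j).subgroupOf (T : Subgroup P)
  Wj := fun j => (⁅pCore 2 P, d.E j⁆ : Subgroup P).subgroupOf (T : Subgroup P)
  Cj := fun j => (centralizer (d.E j : Set P)).subgroupOf (T : Subgroup P)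
  VA := fun j => comap_mono (d.QA j)
  VB := fun j => comap_mono (d.QB j)
  AB := fun j => by
    rw [← subgroupOf_sup (dA_le d j) (dB_le d j), d.AB]
  Acard := fun j => by
    rw [← d.Acard j]
    exact relIndex_subgroupOf (dA_le d j)
  Bcard := fun j => by
    rw [← d.Bcard j]
    exact relIndex_subgroupOf d.T0_le
  WjW := fun j => comap_mono (dWj_le d j)
  WB := fun j w hw b hb => Subtype.ext (d.WB j w hw b hb)
  EB := fun j w hw b hb => mem_centralizer_iff.2 fun e he => d.EB j w hw b hb e he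
  Aa := fun j a ha haV => by
    obtain ⟨h1, h2⟩ := d.Aa j a ha haV
    rw [← cen1_sub]
    constructor
    · rw [← subgroupOf_sup ((dWj_le d j).trans (W_le_T d)) (inf_le_left.trans (W_le_T d))]
      exact comap_mono h1
    · rw [← h2]
      exact relIndex_subgroupOf (W_le_T d)
  wa := fun j w hw hc a ha haV h => by
    refine d.wa j w hw ?_ a ha haV h
    intro h1
    apply hc
    intro t ht
    exact Subtype.ext (mem_centralizer_iff.1 h1 t ht)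
  Wsup := fun X h1 h2 => by
    have h3 : d.W ≤ X.map (T : Subgroup P).subtype := by
      refine d.Wsup.trans (sup_le ?_ (iSup_le fun j => ?_))
      · rintro w ⟨hw, hw2⟩
        refine ⟨⟨w, W_le_T d hw⟩, h1 _ hw ?_, rfl⟩
        intro t ht
        exact Subtype.ext (mem_centralizer_iff.1 hw2 t ht)
      · intro w hw
        exact ⟨⟨w, W_le_T d (dWj_le d j hw)⟩, h2 j hw, rfl⟩
    intro w hw
    obtain ⟨x, hx, h4⟩ := h3 hw
    have h5 : x = w := Subtype.ext h4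
    rwa [← h5]

end mk

theorem stTwoDir : StTwoDir.{u} := by
  intro P _ _ T d ξ hξ sw hB
  obtain ⟨t₀, ht₀⟩ := hξ
  obtain ⟨j⟩ := d.Jne
  obtain ⟨k, u, h1, h2, h3, h4, h5, w₁, hw₁, w₂, hw₂, h6, h7⟩ := (mkGD d ht₀ sw).main ht₀ j (by
    intro h
    apply hB j
    have h1 : (d.B j).subgroupOf (T : Subgroup P) = Qs T := h
    rw [← map_sub (dB_le d j), h1, map_sub Q_le])
  refine ⟨d.E j, d.E k, zpowers u, ?_, ?_, ?_, ?_, ?_, d.irr j, d.irr k, w₁, w₂, hw₁, hw₂, h6, h7⟩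
  · intro h
    exact h1 (zpowers_eq_bot.1 h)
  · rw [zpowers_le]
    exact h2
  · rw [zpowers_le]
    exact h3
  · intro x hx e he
    obtain ⟨n, rfl⟩ := mem_zpowers_iff.1 hx
    exact mem_centralizer_iff.1 ((centralizer (d.E j : Set P)).zpow_mem h4 n) e he
  · intro x hx e he
    obtain ⟨n, rfl⟩ := mem_zpowers_iff.1 hx
    rw [map_zpow]
    exact mem_centralizer_iff.1 ((centralizer (d.E k : Set P)).zpow_mem h5 n) e he

end Cfsg.Agent.H647.HM
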